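import Cfsg.Agent.M9.F1

/-! Normal essential subgroups of a group of maximal class. -/

set_option autoImplicit false
set_option linter.unusedSectionVars false

namespace Cfsg.Agent.M9

open Equiv Cfsg.Fus Cfsg.FusionSystem Subgroup Cfsg.Agent.H1 Cfsg.Agent.L Module
open scoped commutatorElement

universe u

variable {p : ℕ} [hp : Fact p.Prime]

section Max

variable {G : Type*} [Group G] [Finite G] {m j r : ℕ} {s x y : G} {N : Subgroup G}

theorem nk_of (h : MC p m G) (hp2 : p ≠ 2) (h1 : s ∉ tsc G) (h2 : s ∉ kc G (m + 1)) :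
    ∀ r < m + 2, s ∉ kc G r := fun r hr => (by omega : r ≤ m ∨ r = m + 1).elim
  (fun e => h.not_mem_kc (by omega) (MC.blackburn hp2 m G h r e) h1) fun e => e ▸ h2

theorem exists_not_mem_two {A B K : Subgroup G} (hA : ¬ K ≤ A) (hB : ¬ K ≤ B) :
    ∃ s ∈ K, s ∉ A ∧ s ∉ B := by
  obtain ⟨a, ha, ha'⟩ := SetLike.not_le_iff_exists.1 hA
  obtain ⟨b, hb, hb'⟩ := SetLike.not_le_iff_exists.1 hB
  by_cases h1 : a ∈ B
  · by_cases h2 : b ∈ A
    · exact ⟨a * b, K.mul_mem ha hb, fun e => ha' ((mul_mem_cancel_right h2).1 e),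
        fun e => hb' ((mul_mem_cancel_left h1).1 e)⟩
    · exact ⟨b, hb, h2, hb'⟩
  · exact ⟨a, ha, ha', h1⟩

theorem flt_bot (h : MC p m G) (hj : m + 3 ≤ j) : flt G j = ⊥ :=
  le_bot_iff.1 ((flt_anti hj).trans h.top.le)

theorem flt_le_of_mem (h : MC p m G) (hs : ∀ r < m + 2, s ∉ kc G r) [N.Normal] :
    ∀ d j, j + d = m + 2 → ∀ y ∈ N, y ∈ flt G j → y ∉ flt G (j + 1) → flt G j ≤ N
  | 0, j, e, y, h1, h2, h3 => (h.sup_eq (by omega) h2 h3).ge.trans
      (sup_le ((flt_bot h (by omega)).le.trans bot_le) (zpowers_le.2 h1))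
  | d + 1, j, e, y, h1, h2, h3 => (h.sup_eq (by omega) h2 h3).ge.trans (sup_le
      (flt_le_of_mem h hs d (j + 1) (by omega) ⁅y, s⁆ (commutator_le_left N ⊤
        (commutator_mem_commutator h1 trivial)) (comm_mem_flt h2 s) fun e' =>
          hs j (by omega) (h.mem_kc (by omega) h2 h3 e')) (zpowers_le.2 h1))

theorem flt_le_of_mem' (h : MC p m G) (hs : ∀ r < m + 2, s ∉ kc G r) [N.Normal] (h1 : y ∈ N)
    (h2 : y ∈ flt G j) (h3 : y ∉ flt G (j + 1)) : flt G j ≤ N := by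
  by_cases hj : j ≤ m + 2
  · exact flt_le_of_mem h hs (m + 2 - j) j (by omega) y h1 h2 h3
  · exact (flt_bot h (by omega)).le.trans bot_le

theorem eq_flt (h : MC p m G) (hs : ∀ r < m + 2, s ∉ kc G r) [N.Normal] (hN : N ≤ tsc G)
    (h0 : N ≠ ⊥) : ∃ i, N = flt G i := by
  classical
  have ex : ∃ i, ¬ N ≤ flt G (i + 1) := ⟨m + 2, fun e => h0 (le_bot_iff.1 (e.trans h.top.le))⟩
  obtain ⟨y, h1, h2⟩ := SetLike.not_le_iff_exists.1 (Nat.find_spec ex)
  have h3 : N ≤ flt G (Nat.find ex) := by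
    rcases e : Nat.find ex with _ | i
    · exact hN
    · exact not_not.1 (Nat.find_min ex (by omega))
  exact ⟨_, le_antisymm h3 (flt_le_of_mem' h hs h1 (h3 h1) h2)⟩

theorem exists_wt_nat {α : G ≃* G} [N.Normal] (h : α x ∈ N ⊔ zpowers x) :
    ∃ c : ℕ, Wt α N x c := by
  obtain ⟨c, hc⟩ := exists_wt h
  obtain ⟨n, hn⟩ := mem_powers_iff_mem_zpowers.2 (zpow_mem_zpowers x c)
  exact ⟨n, by rwa [Wt, zpow_natCast, show x ^ n = x ^ c from hn]⟩

end Max

namespace FRep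

variable {G A V : Type*} [Group G] [Finite G] [Group A] [AddCommGroup V] [Module (ZMod p) V]
  {E Φ : Subgroup G} {ρ : A →* End (ZMod p) V} {π : G →* A} {vec : G → V} {H : Subgroup A}
  {m r : ℕ} {s x y : G}

section
variable (R : FRep E Φ ρ π vec H)
include R

theorem one : vec 1 = 0 := by simpa using R.mul 1 E.one_mem 1 E.one_mem

theorem inv (hx : x ∈ E) : vec x⁻¹ = -vec x := by
  rw [eq_neg_iff_add_eq_zero, ← R.mul _ (E.inv_mem hx) _ hx, inv_mul_cancel, R.one]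

theorem pow (hx : x ∈ E) : ∀ n : ℕ, vec (x ^ n) = (n : ZMod p) • vec x
  | 0 => by simp [R.one]
  | n + 1 => by rw [pow_succ, R.mul _ (E.pow_mem hx n) _ hx, pow hx n, Nat.cast_succ, add_smul, one_smul]

theorem comm [E.Normal] (g : G) (hx : x ∈ E) : (ρ (π g) - 1) (vec x) = vec ⁅g, x⁆ := by
  rw [LinearMap.sub_apply, R.act g x hx, commutatorElement_def,
    R.mul _ (Normal.conj_mem inferInstance x hx g) _ (E.inv_mem hx), R.inv hx, sub_eq_add_neg]
  rfl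

theorem conj [E.Normal] {a : A} {β : G ≃* G} (h : ∀ x ∈ E, β x ∈ E ∧ ρ a (vec x) = vec (β x))
    (g : G) : a * π g * a⁻¹ = π (β g) := by
  rw [mul_inv_eq_iff_eq_mul]
  refine R.inj (LinearMap.ext fun v => ?_)
  obtain ⟨x, hx, rfl⟩ := R.surj v
  rw [map_mul, map_mul, End.mul_apply, End.mul_apply, R.act g x hx, (h x hx).2, R.act _ _ (h x hx).1,
    (h _ (Normal.conj_mem inferInstance x hx g)).2, map_mul, map_mul, map_inv]

theorem comm_of (h : ⁅x, y⁆ ∈ E) : π x * π y = π y * π x := by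
  rw [← commutatorElement_eq_one_iff_mul_comm, ← map_commutatorElement, R.ker]
  exact h

end

variable (R : FRep (lcs G (r + 1)) Φ ρ π vec H)
include R

theorem mem_W (hs : Unif p s) :
    ∀ (j : ℕ) (v : V), v ∈ W ρ (π s) j ↔ ∃ y ∈ lcs G (r + 1 + j), vec y = v
  | 0, v => ⟨fun _ => R.surj v, fun _ => ⟨v, by simp⟩⟩
  | j + 1, v => by
    constructor
    · rintro ⟨u, rfl⟩
      obtain ⟨y, hy, e⟩ := (mem_W hs j _).1 ⟨u, rfl⟩
      exact ⟨⁅s, y⁆, comm_mem_symm (comm_mem_lcs hy s), by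
        rw [pow_succ', End.mul_apply, ← e, R.comm s (lcs_anti (by omega) hy)]⟩
    · rintro ⟨y, hy, rfl⟩
      obtain ⟨z, hz, e⟩ := hs.surj (r + 1 + j) y⁻¹ (inv_mem hy)
      obtain ⟨u, hu⟩ := (mem_W hs j _).2 ⟨z, hz, rfl⟩
      exact ⟨u, by rw [pow_succ', End.mul_apply, hu, R.comm s (lcs_anti (by omega) hz),
        ← commutatorElement_inv, e, inv_inv]⟩

theorem cfg (h : MC p m G) (hp5 : 5 ≤ p) (hs : ∀ r < m + 2, s ∉ kc G r) [Φ.Normal]
    (hpow : ∀ x ∈ lcs G (r + 1), x ^ p ∈ Φ) (hx : x ∈ lcs G (r + 1)) (hx' : x ∉ lcs G (r + 2))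
    (hc : tsc G ≤ kc G (m + 1) ∨ lcs G (m + 2) ≤ Φ) :
    Cfg ρ π.range ((tsc G).map π) H (π s) (vec x) := by
  have hu := h.unif hs
  have hr : r + 1 ≤ m + 2 := by
    by_contra e
    exact hx' (bot_le (a := lcs G _) ((flt_bot h (j := r + 1) (by omega)).le hx))
  have sT : s ∉ tsc G := fun e => hs 0 (by omega) (h.kc_zero e)
  have zero : ∀ {y j}, y ∈ lcs G (r + 1) → y ∈ Φ → vec y ∈ W ρ (π s) j := fun h1 h2 => by
    rw [(R.zero _ h1).2 h2]; exact zero_mem _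
  refine ⟨hp5, R.inj, R.syl, R.PH, R.ne, R.emb, ⟨s, rfl⟩, map_le_range _ _, ?_, fun v => ?_,
    LinearMap.ext fun v => ?_, ?_⟩
  · rintro _ ⟨g, rfl⟩
    obtain ⟨a, ha, k, rfl⟩ := (mem_sup_zpowers (normal_le_normalizer _ ⊤ trivial)).1
      ((sup_zpowers_eq le_top h.index_tsc trivial sT).ge (mem_top g))
    obtain ⟨n, hn⟩ := mem_powers_iff_mem_zpowers.2 (zpow_mem_zpowers s k)
    exact ⟨n, (s ^ k)⁻¹ * a * s ^ k, Normal.conj_mem' inferInstance a ha _, by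
      rw [← show s ^ n = s ^ k from hn]; simp [mul_assoc]⟩
  · obtain ⟨y, hy, rfl⟩ := R.surj v
    obtain ⟨a, ha, k, rfl⟩ := (mem_sup_zpowers (normal_le_normalizer _ ⊤ trivial)).1
      ((h.sup_eq (r := r + 1) hr hx hx').ge hy)
    obtain ⟨n, hn⟩ := mem_powers_iff_mem_zpowers.2 (zpow_mem_zpowers x k)
    refine ⟨n, (R.mem_W hu 1 _).2 ⟨a, ha, ?_⟩⟩
    rw [← show x ^ n = x ^ k from hn, R.mul _ (lcs_anti (by omega) ha) _ (pow_mem hx n), R.pow hx,
      add_sub_cancel_right]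
  · obtain ⟨y, hy, e⟩ := (R.mem_W hu (p - 1) _).1 ⟨v, rfl⟩
    rw [← e, LinearMap.zero_apply, R.zero _ (lcs_anti (by omega) hy)]
    rw [show r + 1 + (p - 1) = r + p by omega] at hy
    by_cases e' : lcs G (r + p) = ⊥
    · rw [e'] at hy
      exact bot_le (a := Φ) hy
    obtain ⟨k, hk⟩ : ∃ k, r + p = k + 1 := ⟨r + p - 1, by omega⟩
    have h1 := hu.pow_mem_lcs r x hx
    have h2 := hu.pow_not_mem_lcs hx hx' e'
    rw [hk] at hy h1 h2
    exact flt_le_of_mem' h hs (j := k + 1) (hpow x hx) h1 h2 hy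
  · rintro _ ⟨q, hq, rfl⟩ j v hv
    obtain ⟨y, hy, rfl⟩ := (R.mem_W hu j v).1 hv
    have hy' := lcs_anti (show r + 1 ≤ r + 1 + j by omega) hy
    rw [R.comm q hy']
    have h1 : ⁅q, y⁆ ∈ lcs G (r + 1 + j + 1) := comm_mem_symm (comm_mem_lcs hy q)
    have h2 : tsc G ≤ kc G (r + j + 1) → vec ⁅q, y⁆ ∈ W ρ (π s) (j + 2) := fun e =>
      (R.mem_W hu _ _).2 ⟨_, by
        rw [show r + 1 + (j + 2) = r + j + 1 + 2 by omega]
        exact comm_mem_symm (mem_cMod.1 (e hq) y (by rwa [add_right_comm] at hy)), rfl⟩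
    rcases (by omega : r + j + 1 ≤ m ∨ r + j + 1 = m + 1 ∨ m + 3 ≤ r + 1 + j + 1) with e | e | e
    · exact h2 (MC.blackburn (by omega) m G h _ e)
    · exact hc.elim (fun e' => h2 (e ▸ e')) fun e' =>
        zero (lcs_anti (by omega) h1) (e' (lcs_anti (by omega) h1))
    · exact zero (lcs_anti (by omega) h1) (bot_le (a := Φ) (h.top.le (lcs_anti e h1)))

end FRep

end Cfsg.Agent.M9
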