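import Cfsg.Agent.M9.B

/-! Degrees of functions on a group and coset sums. -/

set_option autoImplicit false
set_option linter.unusedSectionVars false
set_option linter.style.haveILetI false

namespace Cfsg.Agent.M9

open Subgroup Module

variable {p : ℕ} [hp : Fact p.Prime] {Γ : Type*} [Group Γ] {σ ζ g : Γ} {k n a b : ℕ}
  {f f' : Γ → ZMod p} {X₀ P₀ : Subgroup Γ} {χ χ' : Γ → ZMod p}

variable (p) in
/-- left translation -/
def tr (g : Γ) : End (ZMod p) (Γ → ZMod p) := LinearMap.funLeft (ZMod p) (ZMod p) (g * ·)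

theorem tr_apply (g x : Γ) (f : Γ → ZMod p) : tr p g f x = f (g * x) := rfl

theorem tr_pow (g : Γ) (i : ℕ) : tr p g ^ i = tr p (g ^ i) := by
  induction i with
  | zero => ext f x; simp [tr_apply]
  | succ i ih => rw [pow_succ, ih]; ext f x; simp [tr_apply, ← mul_assoc, pow_succ']

theorem tr_comm (h : σ * ζ = ζ * σ) : Commute (tr p σ - 1) (tr p ζ - 1) := by
  refine (Commute.sub_left ?_ (Commute.one_left _)).sub_right (Commute.one_right _)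
  ext f x
  simp [tr_apply, ← mul_assoc, h]

variable (p σ ζ k) in
/-- functions of degree `< n` -/
def Dg (n : ℕ) : Submodule (ZMod p) (Γ → ZMod p) :=
  ⨅ (α : ℕ) (β : ℕ) (_ : n ≤ α + k * β), LinearMap.ker ((tr p σ - 1) ^ α * (tr p ζ - 1) ^ β)

theorem mem_Dg : f ∈ Dg p σ ζ k n ↔
    ∀ α β, n ≤ α + k * β → ((tr p σ - 1) ^ α * (tr p ζ - 1) ^ β) f = 0 := by
  simp only [Dg, Submodule.mem_iInf, LinearMap.mem_ker]

theorem Dg_mono (h : a ≤ b) (hf : f ∈ Dg p σ ζ k a) : f ∈ Dg p σ ζ k b :=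
  mem_Dg.2 fun α β h' => mem_Dg.1 hf α β (h.trans h')

theorem Dg_zero (hf : f ∈ Dg p σ ζ k 0) : f = 0 := by simpa using mem_Dg.1 hf 0 0 le_rfl

theorem Dg_s (h : σ * ζ = ζ * σ) (hf : f ∈ Dg p σ ζ k n) : (tr p σ - 1) f ∈ Dg p σ ζ k (n - 1) :=
  mem_Dg.2 fun α β h' => by
    rw [← End.mul_apply, mul_assoc, ← ((tr_comm h).pow_right β).eq, ← mul_assoc, ← pow_succ]
    exact mem_Dg.1 hf _ _ (by omega)

theorem Dg_z (hf : f ∈ Dg p σ ζ k n) : (tr p ζ - 1) f ∈ Dg p σ ζ k (n - k) :=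
  mem_Dg.2 fun α β h' => by
    rw [← End.mul_apply, mul_assoc, ← pow_succ]
    exact mem_Dg.1 hf _ _ (by rw [Nat.mul_succ]; omega)

theorem Dg_step (h : σ * ζ = ζ * σ) (hn : 0 < n) (h1 : (tr p σ - 1) f ∈ Dg p σ ζ k (n - 1))
    (h2 : (tr p ζ - 1) f ∈ Dg p σ ζ k (n - k)) : f ∈ Dg p σ ζ k n :=
  mem_Dg.2 fun α β h' => by
    rcases α with _ | α
    · rcases β with _ | β
      · omega
      · rw [pow_succ (tr p ζ - 1), ← mul_assoc, End.mul_apply]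
        exact mem_Dg.1 h2 _ _ (by rw [Nat.mul_succ] at h'; omega)
    · rw [pow_succ, mul_assoc, ((tr_comm h).pow_right β).eq, ← mul_assoc, End.mul_apply]
      exact mem_Dg.1 h1 _ _ (by omega)

theorem Dg_mul (h : σ * ζ = ζ * σ) (hk : 1 ≤ k) (hf : f ∈ Dg p σ ζ k a) (hf' : f' ∈ Dg p σ ζ k b)
    (hn : a = 0 ∨ b = 0 ∨ a + b ≤ n + 1) : f * f' ∈ Dg p σ ζ k n := by
  induction n using Nat.strong_induction_on generalizing a b f f' with
  | _ n ih =>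
  by_cases ha : a = 0
  · rw [Dg_zero (f := f) (ha ▸ hf), zero_mul]; exact zero_mem _
  by_cases hb : b = 0
  · rw [Dg_zero (f := f') (hb ▸ hf'), mul_zero]; exact zero_mem _
  have key : ∀ g e, 1 ≤ e → (∀ a f, f ∈ Dg p σ ζ k a → (tr p g - 1) f ∈ Dg p σ ζ k (a - e)) →
      (tr p g - 1) (f * f') ∈ Dg p σ ζ k (n - e) := fun g e he hg => by
    have e1 : (tr p g - 1) (f * f') = (tr p g - 1) f * ((tr p g - 1) f' + f') + f * (tr p g - 1) f' := by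
      ext x; simp [tr_apply]; ring
    rw [e1]
    exact add_mem (ih _ (by omega) (hg _ _ hf) (add_mem (Dg_mono (Nat.sub_le _ _) (hg _ _ hf')) hf')
      (by omega)) (ih _ (by omega) hf (hg _ _ hf') (by omega))
  exact Dg_step h (by omega) (key σ 1 le_rfl fun _ _ => Dg_s h) (key ζ k hk fun _ _ => Dg_z)

theorem sub_one_pow {A : Type*} [Ring A] [Algebra (ZMod p) A] (x : A) :
    (x - 1) ^ (p - 1) = ∑ i : Fin p, x ^ (i : ℕ) := by
  have h : (Polynomial.X - 1 : Polynomial (ZMod p)) ^ (p - 1) =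
      ∑ i ∈ Finset.range p, Polynomial.X ^ i := by
    apply mul_right_cancel₀ (Polynomial.X_sub_C_ne_zero (1 : ZMod p))
    rw [Polynomial.C_1, geom_sum_mul, ← pow_succ, Nat.sub_add_cancel hp.out.one_le, sub_pow_char,
      one_pow]
  simpa [map_sum, Finset.sum_range] using congrArg (Polynomial.aeval x) h

theorem sum_s (hf : f ∈ Dg p σ ζ k n) (hn : n ≤ p - 1) (x : Γ) :
    ∑ i : Fin p, f (σ ^ (i : ℕ) * x) = 0 := by
  have := congrFun (mem_Dg.1 hf (p - 1) 0 (by omega)) x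
  simpa [sub_one_pow, tr_pow, tr_apply] using this

theorem sum_sz (hf : f ∈ Dg p σ ζ k n) (hn : n ≤ (k + 1) * (p - 1)) (x : Γ) :
    ∑ i : Fin p × Fin p, f (ζ ^ (i.1 : ℕ) * σ ^ (i.2 : ℕ) * x) = 0 := by
  have := congrFun (mem_Dg.1 hf (p - 1) (p - 1) (by rw [Nat.succ_mul] at hn; omega)) x
  simpa [sub_one_pow, tr_pow, tr_apply, Fintype.sum_prod_type, mul_assoc] using this

variable [Finite Γ] {M : Type*} [AddCommMonoid M] {F : Γ → M}

variable (X₀) in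
/-- the sum over the left cosets -/
noncomputable def cs (F : Γ → M) : M := letI := Fintype.ofFinite (Γ ⧸ X₀); ∑ q : Γ ⧸ X₀, F q.out

theorem out_eq (hF : ∀ h ∈ X₀, ∀ x, F (x * h) = F x) (g : Γ) : F (g : Γ ⧸ X₀).out = F g := by
  obtain ⟨h, e⟩ := QuotientGroup.mk_out_eq_mul X₀ g
  rw [e, hF _ h.2]

theorem cs_tr (hF : ∀ h ∈ X₀, ∀ x, F (x * h) = F x) (g : Γ) :
    cs X₀ (fun x => F (g * x)) = cs X₀ F := by
  letI := Fintype.ofFinite (Γ ⧸ X₀)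
  refine Fintype.sum_equiv (MulAction.toPerm g) _ _ fun q => ?_
  rw [MulAction.toPerm_apply, ← MulAction.Quotient.coe_smul_out, smul_eq_mul, out_eq hF]

theorem cs_map {M' : Type*} [AddCommMonoid M'] {Φ : Type*} [FunLike Φ M M']
    [AddMonoidHomClass Φ M M'] (φ : Φ) : φ (cs X₀ F) = cs X₀ fun x => φ (F x) := map_sum φ _ _

theorem cs_eq {ι : Type*} [Fintype ι] (e : ι → Γ) (inj : Function.Injective e)
    (he : ∀ u, u ∈ P₀ ↔ ∃ i, e i = u) (hP : P₀ ≤ X₀)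
    (free : ∀ u ∈ P₀, u ≠ 1 → ∀ x, x⁻¹ * u * x ∈ X₀ → x ∈ X₀)
    (hF : ∀ h ∈ X₀, ∀ x, F (x * h) = F x) (hs : ∀ x, ∑ i, F (e i * x) = 0) : cs X₀ F = F 1 := by
  classical
  letI := Fintype.ofFinite (Γ ⧸ X₀)
  rw [cs, ← Finset.add_sum_erase _ _ (Finset.mem_univ ((1 : Γ) : Γ ⧸ X₀)), out_eq hF,
    Finset.sum_cancels_of_partition_cancels (MulAction.orbitRel P₀ (Γ ⧸ X₀)), add_zero]
  intro q hq
  obtain ⟨g, rfl⟩ := QuotientGroup.mk_surjective q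
  have hb : ∀ x : Γ, (x : Γ ⧸ X₀) ∈ Finset.univ.erase ((1 : Γ) : Γ ⧸ X₀) ↔ x ∉ X₀ := fun x => by
    simp [QuotientGroup.eq]
  have hm := fun i => (he _).2 ⟨i, rfl⟩
  rw [← hs g]
  symm
  refine Finset.sum_bij (fun i _ => ((e i * g : Γ) : Γ ⧸ X₀)) (fun i _ => ?_) (fun i _ j _ h => ?_)
    (fun a ha => ?_) (fun i _ => (out_eq hF _).symm)
  · exact Finset.mem_filter.2 ⟨(hb _).2 fun h => (hb g).1 hq ((mul_mem_cancel_left (hP (hm i))).1 h),
      ⟨⟨_, hm i⟩, rfl⟩⟩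
  · by_contra hn
    refine (hb g).1 hq (free _ (mul_mem (inv_mem (hm i)) (hm j))
      (fun h' => hn (inj (inv_mul_eq_one.1 h'))) g ?_)
    simpa [mul_assoc] using QuotientGroup.eq.1 h
  · obtain ⟨⟨u, hu⟩, rfl⟩ := (Finset.mem_filter.1 ha).2
    obtain ⟨i, rfl⟩ := (he u).1 hu
    exact ⟨i, Finset.mem_univ _, rfl⟩

variable (p σ ζ k X₀) in
/-- coset sums of functions of degree `< n` are given by the first term -/
def Fr (n : ℕ) : Prop :=
  ∀ f ∈ Dg p σ ζ k n, (∀ h ∈ X₀, ∀ x, f (x * h) = f x) → cs X₀ f = f 1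

variable (σ ζ k X₀) in
/-- matrix coefficients of a weight vector -/
def Fn (n : ℕ) (χ f : Γ → ZMod p) : Prop :=
  (∀ g, tr p g f ∈ Dg p σ ζ k n) ∧ ∀ h ∈ X₀, ∀ x, f (x * h) = χ h * f x

theorem Fn.mul (h : σ * ζ = ζ * σ) (hk : 1 ≤ k) (hf : Fn σ ζ k X₀ a χ f) (hf' : Fn σ ζ k X₀ b χ' f')
    (hn : a + b ≤ n + 1) : Fn σ ζ k X₀ n (χ * χ') (f * f') :=
  ⟨fun g => Dg_mul h hk (hf.1 g) (hf'.1 g) (.inr (.inr hn)), fun h hh x => by
    simp only [Pi.mul_apply, hf.2 h hh, hf'.2 h hh]; ring⟩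

theorem Fr.const (h : Fr p σ ζ k X₀ n) (hf : Fn σ ζ k X₀ n χ f) (hχ : ∀ h ∈ X₀, χ h = 1) (g : Γ) :
    f g = f 1 := by
  have h1 : ∀ h ∈ X₀, ∀ x, f (x * h) = f x := fun h hh x => by rw [hf.2 h hh, hχ h hh, one_mul]
  have h2 := h _ (hf.1 g) fun h hh x => by rw [tr_apply, tr_apply, ← mul_assoc, h1 h hh]
  have h3 := h f (by convert hf.1 1 using 1; ext x; rw [tr_apply, one_mul]) h1
  rw [tr_apply, mul_one] at h2
  rw [← h3, ← cs_tr h1 g, ← h2]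
  rfl

end Cfsg.Agent.M9
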