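import Cfsg.Agent.M9.D

/-! Degrees of matrix coefficients. -/

set_option autoImplicit false
set_option linter.unusedSectionVars false
set_option linter.unusedSimpArgs false

namespace Cfsg.Agent.M9

open Subgroup Module

variable {p : ℕ} [hp : Fact p.Prime] {G V Γ : Type*} [Group G] [AddCommGroup V] [Module (ZMod p) V]
  [Group Γ] {ρ : G →* End (ZMod p) V} {r : Γ →* End (ZMod p) V} {s : G} {σ ζ : Γ} {v w : V}
  {A : End (ZMod p) V} {k α d n b i j : ℕ} {φ : V →ₗ[ZMod p] ZMod p} {X₀ : Subgroup Γ}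
  {χ χ' f : Γ → ZMod p}

/-- an invariant section `W α / W (α + d)` -/
structure Tw (ρ : G →* End (ZMod p) V) (s : G) (r : Γ →* End (ZMod p) V) (σ ζ : Γ) (k α d : ℕ) :
    Prop where
  comm : σ * ζ = ζ * σ
  k1 : 1 ≤ k
  s1 : r σ - 1 ∈ Deg ρ s 1
  s2 : r σ⁻¹ - 1 ∈ Deg ρ s 1
  z1 : r ζ - 1 ∈ Deg ρ s k
  z2 : r ζ⁻¹ - 1 ∈ Deg ρ s k
  i1 : ∀ g, ∀ v ∈ W ρ s α, r g v ∈ W ρ s α
  i2 : ∀ g, ∀ v ∈ W ρ s (α + d), r g v ∈ W ρ s (α + d)

namespace Tw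
variable (T : Tw ρ s r σ ζ k α d)
include T

theorem opDg (hA : A ∈ Deg ρ s 0) (hφ : ∀ w ∈ W ρ s i, φ w = 0) (hi : i ≤ α + d) (hv : v ∈ W ρ s j)
    (hj : α ≤ j) (hn : i ≤ α ∨ α + d ≤ j ∨ d + i ≤ n + j + 1) :
    (fun x => φ (r x (A (r x⁻¹ v)))) ∈ Dg p σ ζ k n := by
  induction n using Nat.strong_induction_on generalizing i j φ v with
  | _ n ih =>
  by_cases h1 : i ≤ α
  · convert Submodule.zero_mem _ using 1
    exact funext fun x => hφ _ (W_anti h1 (T.i1 _ _ (hA _ _ (T.i1 _ _ (W_anti hj hv)))))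
  by_cases h2 : α + d ≤ j
  · convert Submodule.zero_mem _ using 1
    exact funext fun x => hφ _ (W_anti hi (T.i2 _ _ (hA _ _ (T.i2 _ _ (W_anti h2 hv)))))
  have key : ∀ g e, 1 ≤ e → r g - 1 ∈ Deg ρ s e → r g⁻¹ - 1 ∈ Deg ρ s e →
      (tr p g - 1) (fun x => φ (r x (A (r x⁻¹ v)))) ∈ Dg p σ ζ k (n - e) := fun g e he h3 h4 => by
    convert add_mem (ih (n - e) (by omega) (φ := φ ∘ₗ (r g - 1)) (i := i - e)
      (fun w hw => hφ _ (W_anti (by omega) (h3 _ _ hw))) (by omega) (Deg_of_sub h4 _ _ hv) hj (by omega))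
      (ih (n - e) (by omega) hφ hi (h4 _ _ hv) (by omega) (by omega)) using 1
    ext x
    simp [tr_apply, rho_mul]
  exact Dg_step T.comm (by omega) (key σ 1 le_rfl T.s1 T.s2) (key ζ k T.k1 T.z1 T.z2)

theorem dualDg (hφ : ∀ w ∈ W ρ s (α + d), φ w = 0) (hv : v ∈ W ρ s j) (hn : α + d ≤ n + j) :
    (fun x => φ (r x⁻¹ v)) ∈ Dg p σ ζ k n := by
  induction n using Nat.strong_induction_on generalizing j v with
  | _ n ih =>
  by_cases h2 : α + d ≤ j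
  · convert Submodule.zero_mem _ using 1
    exact funext fun x => hφ _ (T.i2 _ _ (W_anti h2 hv))
  have key : ∀ g e, 1 ≤ e → r g⁻¹ - 1 ∈ Deg ρ s e →
      (tr p g - 1) (fun x => φ (r x⁻¹ v)) ∈ Dg p σ ζ k (n - e) := fun g e he h4 => by
    convert ih (n - e) (by omega) (h4 _ _ hv) (by omega) using 1
    ext x
    simp [tr_apply, rho_mul]
  exact Dg_step T.comm (by omega) (key σ 1 le_rfl T.s2) (key ζ k T.k1 T.z2)

omit T in
theorem _root_.Cfsg.Agent.M9.op_wt {h : Γ} {c : ZMod p} (hh : r h * A = c • (A * r h)) (x : Γ) (v : V) :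
    r (x * h) (A (r (x * h)⁻¹ v)) = c • r x (A (r x⁻¹ v)) := by
  rw [mul_inv_rev, rho_mul, rho_mul, ← End.mul_apply (r h), hh]
  simp [rho_inv']

theorem opFn (hA : A ∈ Deg ρ s 0) (hχ : ∀ h ∈ X₀, r h * A = χ h • (A * r h))
    (hφ : ∀ w ∈ W ρ s (α + d), φ w = 0) (hv : v ∈ W ρ s α) :
    Fn σ ζ k X₀ (2 * d - 1) χ fun x => φ (r x (A (r x⁻¹ v))) := by
  refine ⟨fun g => ?_, fun h hh x => by simp only [op_wt (hχ h hh), map_smul, smul_eq_mul]⟩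
  convert T.opDg hA (φ := φ ∘ₗ r g) (fun w hw => hφ _ (T.i2 g w hw)) le_rfl (T.i1 g⁻¹ v hv) le_rfl
    (n := 2 * d - 1) (by omega) using 1
  ext x
  simp [tr_apply, rho_mul]

theorem dualFn (hφ : ∀ w ∈ W ρ s (α + d), φ w = 0)
    (hχ : ∀ h ∈ X₀, ∀ w ∈ W ρ s α, φ (r h⁻¹ w) = χ h * φ w) (hv : v ∈ W ρ s α) :
    Fn σ ζ k X₀ d χ fun x => φ (r x⁻¹ v) := by
  refine ⟨fun g => ?_, fun h hh x => by
    simp only [mul_inv_rev, rho_mul, hχ h hh _ (T.i1 _ _ hv)]⟩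
  convert T.dualDg hφ (T.i1 g⁻¹ v hv) (n := d) (by omega) using 1
  ext x
  simp [tr_apply, rho_mul]

variable [Finite Γ]

/-- the line spanned by an operator is invariant -/
theorem nm (h0 : ∀ v ∈ W ρ s (α + d), v = 0) (hα : α = 0) (hF : Fr p σ ζ k X₀ n) (hA : A ∈ Deg ρ s 0)
    (hχ : ∀ h ∈ X₀, r h * A = χ h • (A * r h)) (hf : Fn σ ζ k X₀ b χ' f) (h1 : f 1 = 1)
    (hχ' : ∀ h ∈ X₀, χ h * χ' h = 1) (hn : 2 * d - 1 + b ≤ n + 1) (g : Γ) :
    ∃ c : ZMod p, r g * A = c • (A * r g) := by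
  refine ⟨f g⁻¹, LinearMap.ext fun v => ?_⟩
  rw [← sub_eq_zero, ← forall_dual_apply_eq_zero_iff (ZMod p)]
  intro φ
  have := hF.const ((T.opFn hA hχ (φ := φ ∘ₗ r g) (fun w hw => by rw [h0 w hw, map_zero])
    (v := v) (hα ▸ W_zero)).mul T.comm T.k1 hf hn) hχ' g⁻¹
  simp only [Pi.mul_apply, LinearMap.comp_apply, rho_inv', inv_inv, inv_one, map_one, End.one_apply,
    h1, mul_one] at this
  simp [← this, mul_comm]

/-- the kernel of a functional is invariant -/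
theorem ker_inv (hF : Fr p σ ζ k X₀ n) (hφ : ∀ w ∈ W ρ s (α + d), φ w = 0)
    (hχ : ∀ h ∈ X₀, ∀ w ∈ W ρ s α, φ (r h⁻¹ w) = χ h * φ w) (hf : Fn σ ζ k X₀ b χ' f) (h1 : f 1 = 1)
    (hχ' : ∀ h ∈ X₀, χ h * χ' h = 1) (hn : d + b ≤ n + 1) (g : Γ) (hv : v ∈ W ρ s α) (h : φ v = 0) :
    φ (r g v) = 0 := by
  have := hF.const ((T.dualFn hφ hχ (T.i1 g v hv)).mul T.comm T.k1 hf hn) hχ' g
  simpa [rho_inv, h, h1] using this.symm

/-- an invariant operator with a given leading term -/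
theorem avg (hF : Fr p σ ζ k X₀ n) (hA : A ∈ Deg ρ s 0) (hχ : ∀ h ∈ X₀, r h * A = A * r h) :
    ∃ B : End (ZMod p) V, (∀ g, Commute (r g) B) ∧ ∀ i ≤ d, d + i ≤ n + 1 →
      ∀ v ∈ W ρ s α, B v - A v ∈ W ρ s (α + i) := by
  have h1 : ∀ h ∈ X₀, ∀ x, r (x * h) * A * r (x * h)⁻¹ = r x * A * r x⁻¹ := fun h hh x =>
    LinearMap.ext fun v => by simpa using op_wt (c := 1) ((hχ h hh).trans (one_smul _ _).symm) x v
  refine ⟨cs X₀ fun x => r x * A * r x⁻¹, fun g => ?_, fun i hi hn v hv => ?_⟩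
  · have h2 := cs_map (X₀ := X₀) (F := fun x => r x * A * r x⁻¹) (AddMonoidHom.mulLeft (r g))
    have h3 := cs_map (X₀ := X₀) (F := fun x => r (g * x) * A * r (g * x)⁻¹)
      (AddMonoidHom.mulRight (r g))
    rw [cs_tr (F := fun x => r x * A * r x⁻¹) h1 g] at h3
    refine (h2.trans ?_).trans h3.symm
    congr 1
    ext x v
    simp [rho_mul, rho_inv]
  · rw [← Subspace.forall_mem_dualAnnihilator_apply_eq_zero_iff]
    intro φ hφ
    rw [Submodule.mem_dualAnnihilator] at hφ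
    have h2 := hF _ (T.opDg hA hφ (by omega) hv le_rfl (by omega)) fun h hh x => by
      simp only [op_wt (c := 1) ((hχ h hh).trans (one_smul _ _).symm), one_smul]
    have h3 := cs_map (X₀ := X₀) (F := fun x => r x * A * r x⁻¹) (φ ∘ₗ LinearMap.applyₗ v)
    rw [map_sub, sub_eq_zero]
    refine h3.trans (Eq.trans ?_ (h2.trans (by simp)))
    rfl

end Tw

end Cfsg.Agent.M9
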