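import Cfsg.Agent.M9.F2

/-! The reduction of `S5269` to the two linear statements. -/

set_option autoImplicit false
set_option linter.unusedSectionVars false

namespace Cfsg.Agent.M9

open Equiv Cfsg.Fus Cfsg.FusionSystem Subgroup Cfsg.Agent.H1 Cfsg.Agent.L Module
open scoped commutatorElement

universe u

variable {p : ℕ} [hp : Fact p.Prime]

section Top

variable {G : Type u} [Group G] [Finite G] {m r : ℕ} {F : FusionSystem (⊤ : Subgroup G)}
  {E : Subgroup G} {s : G}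

theorem not_exc (h : MC p m G) (hp5 : 5 ≤ p) (hE : F.IsEssential p (lcs G (r + 1))) (hr : r ≤ m)
    (h0 : phiF (lcs G (r + 1)) = ⊥) : tsc G ≤ kc G (m + 1) := by
  by_contra ex
  have hG := h.pg.to_subgroup ⊤
  obtain ⟨s, -, hs⟩ := SetLike.not_le_iff_exists.1 (h.kc_ne (r := 1) (by omega))
  obtain ⟨y, hy, hy'⟩ := h.exists_mem (r := 0) (by omega)
  have h1 : m ≤ 2 * r := by
    by_contra e
    exact h.pair (a := r + 1) (b := m - r) le_rfl (fun k hk => MC.blackburn (by omega) m G h k (by omega))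
      ex hs hy hy' (by omega) (bot_le (a := lcs G _) (h0.le (commutator_le_phiF hG le_top
        (commutator_mem_commutator (cs_mem s y _) (lcs_anti (by omega) (cs_mem s y _))))))
  obtain ⟨g, hg, hg'⟩ := h.exists_mem (r := r) (by omega)
  obtain ⟨b, hb, hb'⟩ := h.exists_mem (r := m + 2) le_rfl
  have hbE : b ∈ lcs G (r + 1) := lcs_anti (by omega) hb
  have h2 : ∀ {k x}, x ∈ lcs G k → x⁻¹ * (g * x * g⁻¹) ∈ lcs G (k + r + 1) := fun hx => by
    simpa [commutatorElement_def, mul_assoc] using comm_lcs (inv_mem hx) (flt_le_lcs r hg) le_rfl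
  obtain ⟨a, W, t⟩ := (fSec_phiF hG hE).exists_qTv hG trivial (normal_le_normalizer _ ⊤ trivial) hg'
    hbE (pow_mem_phiF hG le_top hbE) (bot_le (a := phiF _) (h.top.le (lcs_anti (by omega) (h2 hb))))
    fun x hx => sup_le_sup_right (h.top.le.trans bot_le) _
      ((h.sup_eq le_rfl hb hb').ge (lcs_anti (by omega) (h2 hx)))
  obtain ⟨k, hk⟩ := t.norm s trivial (normal_le_normalizer _ ⊤ trivial)
  exact hs ((mul_mem_cancel_left (inv_mem (zpow_mem (flt_anti r.zero_le hg) k))).1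
    (flt_anti (r + 1).zero_le hk))

theorem not_lcs [BIG.{u}] [SMALL.{u}] (h : MC p m G) (hp5 : 5 ≤ p) (hF : F.IsSaturated p)
    (hs : ∀ r < m + 2, s ∉ kc G r) (hE : F.IsEssential p (lcs G (r + 1))) : False := by
  have hG := h.pg.to_subgroup ⊤
  have hu := h.unif hs
  have sT : s ∉ tsc G := fun e => hs 0 (by omega) (h.kc_zero e)
  have hr : r ≤ m := by
    by_contra e
    exact hu.not_mem_lcs r (hE.isCentric.centralizerIn_le ⟨trivial, fun x hx =>
      (mem_center_iff.1 (h.center_eq.ge (lcs_anti (by omega) hx)) s).symm⟩)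
  haveI : (phiF (lcs G (r + 1))).Normal := normalizer_eq_top_iff.1 (top_le_iff.1 fun g _ =>
    normalizer_phiF (S := ⊤) le_top ⟨trivial, normal_le_normalizer _ ⊤ trivial⟩)
  obtain ⟨A, V, _, _, _, _, _, ρ, π, vec, H, R⟩ := exists_fRep hG hF hE
  have C := fun x hx hx' => R.cfg (x := x) h hp5 hs (fun x hx => pow_mem_phiF hG le_top hx) hx hx'
    ((eq_or_ne _ ⊥).imp (not_exc h hp5 hE hr) fun e => h.center_eq.ge.trans (hu.center_le e))
  rcases r with _ | r
  · obtain ⟨y, hy, hy'⟩ := h.exists_mem (r := 0) (by omega)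
    have e0 := h.sup_eq (by omega) hy hy'
    have x1 : ⁅y, s⁆ ∈ lcs G 1 := comm_mem_flt hy s
    have e1 : (tsc G).map π = zpowers (π y) := by
      rw [show tsc G = _ from e0.symm, Subgroup.map_sup, MonoidHom.map_zpowers, sup_eq_right]
      rintro _ ⟨a, ha, rfl⟩
      rw [(R.ker a).2 ha]
      exact one_mem _
    refine SMALL.out (e1 ▸ C _ x1 fun e => hs 0 (by omega) (h.mem_kc (by omega) hy hy' e))
      (fun e => hy' ((R.ker y).1 e)) (R.comm_of (comm_mem_symm x1)) fun a ha => ?_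
    obtain ⟨β, hβ⟩ := R.ext a ha
    obtain ⟨c, hc⟩ := exists_wt_nat (α := β)
      ((sup_zpowers_eq le_top h.index_tsc trivial sT).ge (mem_top _))
    obtain ⟨d, hd⟩ := exists_wt_nat (e0.ge (map_mem_tsc β hy))
    have hx : Wt β (lcs G 2) ⁅y, s⁆ (d * c) := hd.comm hc hy (mem_top _) le_top
      (fun a ha v _ => comm_mem_lcs ha v) (fun u hu b hb => mem_cMod.1 (h.kc_zero hb) u hu)
      fun u hu g => comm_mem_flt (comm_mem_flt (r := 0) hu s) g
    rw [← Nat.cast_mul, mul_comm] at hx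
    rw [Wt, zpow_natCast] at hc hd hx
    refine ⟨c, d, ?_, ?_, (R.mem_W hu 1 _).2 ⟨_, hx, ?_⟩⟩
    · rw [R.conj hβ, ← e1, ← map_pow, ← map_inv, ← map_mul]
      exact mem_map_of_mem π hc
    · rw [R.conj hβ, eq_comm, ← inv_mul_eq_one, ← map_pow, ← map_inv, ← map_mul, R.ker]
      exact hd
    · rw [R.mul _ (inv_mem (pow_mem x1 _)) _ (hβ _ x1).1, R.inv (pow_mem x1 _), R.pow x1, (hβ _ x1).2,
        neg_add_eq_sub]
  · obtain ⟨y, hy, hy'⟩ := h.exists_mem (r := r) (by omega)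
    obtain ⟨x, hx, hx'⟩ := h.exists_mem (r := r + 2) (by omega)
    have z1 : ⁅s⁻¹, y⁆ ∈ lcs G (r + 1) := comm_mem_symm (comm_mem_flt hy _)
    refine BIG.out (C x hx hx') (π y) (mem_map_of_mem π (flt_anti r.zero_le hy)) (π ⁅s⁻¹, y⁆)
      (mem_map_of_mem π (flt_anti (r + 1).zero_le z1)) (fun e => hs r (by omega) (inv_mem_iff.1
        (h.mem_kc (by omega) hy hy' (comm_mem_symm ((R.ker _).1 e))))) ?_
      (by simp [commutatorElement_def, mul_assoc])
    rintro _ ⟨u, rfl⟩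
    exact R.comm_of (comm_mem_symm (comm_mem_lcs z1 u))

theorem fus_top [BIG.{u}] [SMALL.{u}] (h : MC p m G) (hp5 : 5 ≤ p) (hF : F.IsSaturated p)
    (hE : F.IsEssential p E) [E.Normal] : E.index = p ∧
      (E = tsc G ∨ E = kc G (m + 1) ∨ m = 0 ∧ ¬ ∀ a ∈ E, ∀ b ∈ E, a * b = b * a) := by
  have hG := h.pg.to_subgroup ⊤
  have hp2 : p ≠ 2 := by omega
  obtain ⟨s, -, s1, s2⟩ := exists_not_mem_two (h.kc_ne (r := 1) (by omega)) (h.kc_ne le_rfl)
  have hs := nk_of h hp2 s1 s2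
  have hu := h.unif hs
  by_cases h1 : E ≤ tsc G
  · obtain ⟨i, rfl⟩ := eq_flt h hs h1 fun e => s1 (h1 (hE.isCentric.centralizerIn_le
      ⟨trivial, fun x hx => by rw [mem_bot.1 (e.le hx), one_mul, mul_one]⟩))
    rcases i with _ | r
    · exact ⟨relIndex_top_right (tsc G) ▸ h.index_tsc, Or.inl rfl⟩
    · exact (not_lcs h hp5 hF hs hE).elim
  have h2 : ¬ E ≤ lcs G 1 := fun e => h1 (e.trans lcs_one_le_tsc)
  have h3 : lcs G 1 ≤ E := by
    by_contra e
    have h3 := relIndex_mul_index (le_sup_right : lcs G 1 ≤ E ⊔ lcs G 1)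
    have h4 := Nat.mul_le_mul (le_relIndex h.pg fun e : E ⊔ lcs G 1 ≤ lcs G 1 =>
      h2 (le_sup_left.trans e)) (sq_le_index h.pg e)
    rw [h3, hu.index_lcs_one] at h4
    nlinarith [pow_pos hp.out.pos 2]
  have h4 : E.index = p := by
    have h4 := relIndex_mul_index h3
    rw [relIndex_eq_of_le hG le_top (hu.relIndex_le (hE.lt hF hG).ne) h2, hu.index_lcs_one, sq] at h4
    exact Nat.eq_of_mul_eq_mul_left hp.out.pos h4
  refine ⟨h4, Or.inr ?_⟩
  by_cases h5 : E ≤ kc G (m + 1)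
  · exact Or.inl ((eq_or_eq_of_relIndex h5 le_top ((relIndex_top_right E).trans h4)).resolve_right
      fun e => h.kc_ne le_rfl e.ge).symm
  obtain ⟨t, ht, t1, t2⟩ := exists_not_mem_two h1 h5
  have h6 := (h.unif (nk_of h hp2 t1 t2)).card
  have h7 : Nat.card E = p ^ (m + 3) := by
    have := E.index_mul_card
    rw [h4, h.card, pow_succ'] at this
    exact Nat.eq_of_mul_eq_mul_left hp.out.pos this
  have h8 : ¬ ∀ a ∈ E, ∀ b ∈ E, a * b = b * a := fun e => by
    have := (card_le_of_le fun a ha => mem_centralizer_singleton_iff.2 (e a ha t ht)).trans h6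
    rw [h7, Nat.pow_le_pow_iff_right hp.out.one_lt] at this
    omega
  rcases m with _ | m
  · exact Or.inr ⟨rfl, h8⟩
  have pE := h.pg.to_subgroup E
  have hu' : Unif p (⟨t, ht⟩ : E) := ⟨pE, fun e => h8 fun a ha b hb => congrArg Subtype.val
    (comm_one_iff.1 (e.le (comm_mem_lcs (k := 0) (y := ⟨a, ha⟩) trivial ⟨b, hb⟩))),
    le_trans (Nat.card_le_card_of_injective (β := centralizer {t}) (fun x => ⟨x.1.1,
      mem_centralizer_singleton_iff.2 (congrArg Subtype.val (mem_centralizer_singleton_iff.1 x.2))⟩)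
        fun a b e => Subtype.ext (Subtype.ext (Subtype.mk.inj e))) h6⟩
  have hm : MC p m E := ⟨pE, h7, hu'.lcs_ne_bot h7 (by omega)⟩
  refine ((H8.essAut_of_isEssential hE).not_stab ?_).elim
  by_cases h9 : tsc E ≤ frattini E
  · exact H8.stab_of_index_frattini_dvd pE
      ((index_dvd_of_le h9).trans ((relIndex_top_right _).symm.trans hm.index_tsc).dvd)
  · exact H8.stab_of_rank_two pE ((index_dvd_of_le (commutator_le_frattini_of_isPGroup pE)).trans
      hu'.index_lcs_one.dvd) (fun a _ _ => map_mem_tsc a) h9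
      fun e => hm.kc_ne (r := 1) (by omega) e.ge

theorem ucs_two_eq_lcs (h : MC p m G) : Subgroup.upperCentralSeries G 2 = lcs G (m + 1) := by
  have h1 : ∀ x ∈ lcs G (m + 1), x ∈ Subgroup.upperCentralSeries G 2 := fun x hx => by
    rw [Subgroup.mem_upperCentralSeries_succ_iff]
    intro y
    rw [Subgroup.upperCentralSeries_one, h.center_eq]
    exact comm_mem_lcs hx y
  refine (eq_of_le_of_card_ge h1 ?_).symm
  rw [card_of_relIndex (Subgroup.upperCentralSeries_one G ▸ Subgroup.upperCentralSeries_mono G one_le_two)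
    (relIndex_ucs_two h.pg h.card h.ne), h.center_eq, h.card_lcs (b := 1) rfl,
    h.card_lcs (b := 2) rfl, pow_one, sq]

end Top

/-- `S5269` from the two linear statements -/
theorem fus [BIG.{u}] [SMALL.{u}] {Ω : Type u} [Group Ω] {S : Subgroup Ω} [Finite S] (p : ℕ) [Fact p.Prime] (hS : IsPGroup p ↥S) (n : ℕ) (hn : Nat.card S = p ^ n) (h4 : 4 ≤ n) (hmax : Subgroup.lowerCentralSeries S (n - 2) ≠ ⊥) (F : Cfsg.FusionSystem S) (hF : F.IsSaturated p) (hp : 5 ≤ p) (Γ₁ : Subgroup Ω) (hΓ₁ : ∀ x : Ω, x ∈ Γ₁ ↔ x ∈ S ∧ ∀ y ∈ Subgroup.lowerCentralSeries S 1, x * y * x⁻¹ * y⁻¹ ∈ Subgroup.lowerCentralSeries S 3) (E : Subgroup Ω) (hE : F.IsEssential p E) (hEn : (E.subgroupOf S).Normal) : (E.subgroupOf S).index = p ∧ (E = Γ₁ ∨ E = (S ⊓ Subgroup.centralizer (((Subgroup.upperCentralSeries ↥S 2).map S.subtype) : Set Ω)) ∨ (n = 4 ∧ Nat.card ↥E = p ^ 3 ∧ Cfsg.IsExtraspecial p ↥E ∧ Monoid.exponent ↥E = p)) := by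
  obtain ⟨m, rfl⟩ : ∃ m, n = m + 4 := ⟨n - 4, by omega⟩
  have hl : ∀ k, Subgroup.lowerCentralSeries S k = (lcs S k).map S.subtype := fun k =>
    (Subgroup.top_subtype_lowerCentralSeries S k).symm
  have h : MC p m S := ⟨hS, hn, fun e => hmax (by rw [hl]; exact e ▸ Subgroup.map_bot _)⟩
  obtain ⟨θ, F', t⟩ := exists_transp_top F
  have e : img θ E = E.subgroupOf S := by
    ext y
    rw [t.symm.piso.mem_img_iff hE.le]
    exact and_iff_right trivial
  obtain ⟨h1, h2⟩ := fus_top h hp (t.symm.isSaturated hF) (e ▸ t.symm.isEssential hE)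
  have e' := map_subgroupOf_eq_of_le hE.le
  refine ⟨h1, h2.imp (fun h2 => ?_) (Or.imp (fun h2 => ?_) fun ⟨h2, h3⟩ => ?_)⟩
  · ext x
    rw [hΓ₁, ← e', h2, hl, hl]
    refine ⟨?_, fun ⟨hx, h3⟩ => ⟨⟨x, hx⟩, mem_cMod.2 fun y hy => comm_mem_symm
      ((mem_map_iff_mem S.subtype_injective).1 (h3 y ⟨y, hy, rfl⟩)), rfl⟩⟩
    rintro ⟨x, hx, rfl⟩
    refine ⟨x.2, ?_⟩
    rintro _ ⟨y, hy, rfl⟩
    exact ⟨_, comm_mem_symm (mem_cMod.1 hx y hy), rfl⟩
  · ext x
    rw [← e', h2, ucs_two_eq_lcs h]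
    refine ⟨?_, fun ⟨hx, h3⟩ => ⟨⟨x, hx⟩, mem_cMod.2 fun y hy => by
      rw [comm_one_iff.2 (Subtype.ext (h3 y ⟨y, hy, rfl⟩))]; exact one_mem _, rfl⟩⟩
    rintro ⟨x, hx, rfl⟩
    refine ⟨x.2, ?_⟩
    rintro _ ⟨y, hy, rfl⟩
    exact congrArg Subtype.val (comm_one_iff.1 (h.top.le (mem_cMod.1 hx y hy)))
  subst h2
  haveI := Fus.finite_of_le hE.le
  have pp : p.Prime := Fact.out
  have hk : Nat.card E = p ^ 3 := by
    have := (E.subgroupOf S).index_mul_card
    rw [h1, hn, pow_succ', L.card_subgroupOf_of_le hE.le] at this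
    exact Nat.eq_of_mul_eq_mul_left pp.pos this
  rcases H8.card_cube_cases (isPGroup_of_le hS hE.le) (H8.essAut_of_isEssential hE).not_stab hk with
    ⟨h7, -⟩ | ⟨-, h5, h6⟩ | h5
  · exact (h3 fun a ha b hb => Subtype.ext (congrArg Subtype.val (h7 ⟨a, ha⟩ ⟨b, hb⟩) :)).elim
  · haveI : Nontrivial E := Finite.one_lt_card_iff_nontrivial.1
      (hk ▸ Nat.one_lt_pow (by omega) pp.one_lt)
    exact ⟨rfl, hk, h5, (Monoid.exponent_eq_prime_iff pp).2 fun g hg => orderOf_eq_prime (h6 g) hg⟩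
  · omega

end Cfsg.Agent.M9
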