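import Cfsg.Agent.M9.Q2

/-! The instance `QUAD` for `S5269`. -/

set_option autoImplicit false

namespace Cfsg.Agent.M9.Qd

open Matrix Cfsg.Agent.H1 Cfsg.Agent.L Subgroup
open scoped MatrixGroups commutatorElement

universe u

variable {K : Type*} [Field K] {Γ : Type*} [Group Γ] {p : ℕ} [hp : Fact p.Prime]

/-- no nontrivial `p`-elements -/
def Pf (p : ℕ) (D : Subgroup Γ) : Prop := ∀ g ∈ D, ∀ k : ℕ, g ^ p ^ k = 1 → g = 1

theorem Pf.cop [Finite Γ] {D : Subgroup Γ} (h : Pf p D) {g : Γ} (hg : g ∈ D) :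
    Nat.Coprime p (orderOf g) := by
  rw [hp.out.coprime_iff_not_dvd]
  rintro ⟨m, hm⟩
  have h1 := h (g ^ m) (pow_mem hg m) 1 (by
    rw [pow_one, ← pow_mul, mul_comm, ← hm, pow_orderOf_eq_one])
  have h2 := Nat.le_of_dvd (Nat.pos_of_ne_zero fun h0 => (orderOf_pos g).ne' (by
    rw [hm, h0, mul_zero])) (orderOf_dvd_of_pow_eq_one h1)
  have h3 := orderOf_pos g
  have := hp.out.two_le
  nlinarith

theorem Pf.eq_one [Finite Γ] {D : Subgroup Γ} (h : Pf p D) {g : Γ} (hg : g ∈ D) {M : Type*}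
    [Monoid M] {a : M} (h1 : a ^ orderOf g = 1) (h2 : a ^ p = 1) : a = 1 :=
  (pow_eq_one_iff_of_coprime (h.cop hg)).1 ⟨h2, h1⟩

omit hp in
theorem Pf.comm {D : Subgroup Γ} (h : Pf p D) (hD : D ≤ center Γ) {g a : Γ} (h1 : ⁅g, a⁆ ∈ D)
    {k : ℕ} (hk : a ^ p ^ k = 1) : g * a = a * g := by
  rw [← commutatorElement_eq_one_iff_mul_comm]
  refine h _ h1 k ?_
  have h2 : g * a * g⁻¹ = ⁅g, a⁆ * a := by simp [commutatorElement_def]
  have h3 : (g * a * g⁻¹) ^ p ^ k = 1 := by rw [conj_pow, hk]; simp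
  have h4 : Commute ⁅g, a⁆ a := (mem_center_iff.1 (hD h1) a).symm
  rwa [h2, h4.mul_pow, hk, mul_one] at h3

theorem gen_sub (x y : Γ) : closure {(⟨x, subset_closure (by simp)⟩ : closure ({x, y} : Set Γ)),
    ⟨y, subset_closure (by simp)⟩} = ⊤ := by
  rw [← closure_closure_coe_preimage]
  congr 1
  ext z
  simp [Subtype.ext_iff]

variable [CharP K p] {W : Type*} [AddCommGroup W] [Module K W]

theorem quad_pow {r : Module.End K W} (h : (r - 1) * (r - 1) = 0) : r ^ p = 1 := by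
  rcases subsingleton_or_nontrivial W with h' | h'
  · exact Subsingleton.elim _ _
  haveI : CharP (Module.End K W) p := charP_of_injective_algebraMap
    (algebraMap K (Module.End K W)).injective p
  have h2 := pow_eq_zero_of_le hp.out.two_le ((pow_two _).trans h)
  rwa [sub_pow_char_of_commute _ (Commute.one_right _), one_pow, sub_eq_zero] at h2

variable [IsAlgClosed K] [FiniteDimensional K W] [Finite Γ]

/-- a quadratic element centralises normal `p'`-subgroups -/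
theorem Pf.quad (hp5 : 5 ≤ p) {ρ : Γ →* Module.End K W} (inj : Function.Injective ρ) {x : Γ}
    (hx : (ρ x - 1) * (ρ x - 1) = 0) {D : Subgroup Γ} [hD : D.Normal] (h : Pf p D) {d : Γ}
    (hd : d ∈ D) : d * x = x * d := by
  have hc : ⁅d, x⁆ ∈ D := by
    rw [commutatorElement_def, mul_assoc, mul_assoc, ← mul_assoc x]
    exact mul_mem hd (hD.conj_mem _ (inv_mem hd) x)
  have hq : (ρ (d * x * d⁻¹) - 1) * (ρ (d * x * d⁻¹) - 1) = 0 := by
    have e1 : ρ d * ρ d⁻¹ = 1 := by rw [← map_mul, mul_inv_cancel, map_one]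
    have e2 : ρ d⁻¹ * ρ d = 1 := by rw [← map_mul, inv_mul_cancel, map_one]
    have e3 : ρ (d * x * d⁻¹) - 1 = ρ d * (ρ x - 1) * ρ d⁻¹ := by
      rw [map_mul, map_mul, mul_sub, sub_mul, mul_one, e1]
    rw [e3]
    calc _ = ρ d * ((ρ x - 1) * (ρ d⁻¹ * ρ d) * (ρ x - 1)) * ρ d⁻¹ := by noncomm_ring
      _ = 0 := by rw [e2, mul_one, hx, mul_zero, zero_mul]
  have hxy := gen_sub x (d * x * d⁻¹)
  set Γ₀ := closure ({x, d * x * d⁻¹} : Set Γ) with hΓ
  have m1 : x ∈ Γ₀ := subset_closure (by simp)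
  have m2 : d * x * d⁻¹ ∈ Γ₀ := subset_closure (by simp)
  have hn := nil_of_pl (K := K) hxy ⟨⁅d, x⁆, mul_mem m2 (inv_mem m1)⟩ _ (ρ.comp Γ₀.subtype) rfl
    hx hq fun μ hμ _ => by
      exfalso
      have h1 := hμ.comm hp5 hxy (N := ⊤) (MonoidHom.range_eq_map μ).symm
      obtain ⟨n, hn, e⟩ := h1.ge (⟨_, rfl⟩ : μ ⟨x, m1⟩ ∈ μ.range)
      have h2 : Γ₀ ≤ (zpowers (x : Γ ⧸ D)).comap (QuotientGroup.mk' D) := by
        rw [hΓ, closure_le]
        rintro _ (rfl | rfl)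
        · exact mem_zpowers _
        · have : ((d * x * d⁻¹ : Γ) : Γ ⧸ D) = x := by
            simp [(QuotientGroup.eq_one_iff d).2 hd]
          show ((d * x * d⁻¹ : Γ) : Γ ⧸ D) ∈ zpowers _
          rw [this]
          exact mem_zpowers _
      have h3 : ⁅(⊤ : Subgroup Γ₀), (⊤ : Subgroup Γ₀)⁆ ≤ D.subgroupOf Γ₀ := by
        rw [commutator_le]
        intro a _ b _
        obtain ⟨i, hi⟩ := h2 a.2
        obtain ⟨j, hj⟩ := h2 b.2
        rw [mem_subgroupOf, ← QuotientGroup.eq_one_iff]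
        show QuotientGroup.mk' D (Γ₀.subtype ⁅a, b⁆) = 1
        rw [map_commutatorElement, map_commutatorElement, commutatorElement_eq_one_iff_commute]
        show Commute (QuotientGroup.mk' D a) (QuotientGroup.mk' D b)
        rw [← hi, ← hj]
        exact Commute.zpow_zpow_self _ _ _
      obtain ⟨l, hl, e1, -⟩ := hμ
      refine up_ne hl (h.eq_one (h3 hn) ?_ ?_)
      · rw [← e1, ← e, ← map_pow, coe_subtype, Subgroup.orderOf_coe, pow_orderOf_eq_one, map_one]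
      · rw [up_pow, CharP.cast_eq_zero, zero_mul, up_zero]
  obtain ⟨k, hk⟩ := pow_of_nil hn
  rw [← commutatorElement_eq_one_iff_mul_comm]
  exact h _ hc k (inj (by rw [map_pow, map_one]; exact hk))

/-- the standing hypotheses -/
structure Su (p : ℕ) (ρ : Γ →* Module.End K W) (Y : Subgroup Γ) (x y : Γ) : Prop where
  p5 : 5 ≤ p
  inj : Function.Injective ρ
  gen : closure {x, y} = ⊤
  emb : Emb p Y
  xY : x ∈ Y
  x1 : x ≠ 1
  yY : y ∉ Y
  qx : (ρ x - 1) * (ρ x - 1) = 0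
  qy : (ρ y - 1) * (ρ y - 1) = 0

variable {ρ : Γ →* Module.End K W} {Y : Subgroup Γ} {x y : Γ}

omit [IsAlgClosed K] [FiniteDimensional K W] [Finite Γ] in
theorem Su.xp (h : Su p ρ Y x y) : x ^ p = 1 := h.inj (by rw [map_pow, map_one, quad_pow h.qx])

omit [IsAlgClosed K] [FiniteDimensional K W] [Finite Γ] in
theorem Su.yp (h : Su p ρ Y x y) : y ^ p = 1 := h.inj (by rw [map_pow, map_one, quad_pow h.qy])

omit hp [CharP K p] [IsAlgClosed K] [FiniteDimensional K W] [Finite Γ] in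
theorem Su.cen (h : Su p ρ Y x y) {g : Γ} (h1 : g * x = x * g) (h2 : g * y = y * g) :
    g ∈ center Γ := by
  rw [← centralizer_univ, ← coe_top, ← h.gen, centralizer_closure]
  rintro _ (rfl | rfl)
  exacts [h1.symm, h2.symm]

theorem Su.pf_cen (h : Su p ρ Y x y) {D : Subgroup Γ} [D.Normal] (hD : Pf p D) : D ≤ center Γ :=
  fun _ hd => h.cen (hD.quad h.p5 h.inj h.qx hd) (hD.quad h.p5 h.inj h.qy hd)

omit [IsAlgClosed K] [FiniteDimensional K W] in
theorem Su.syl (h : Su p ρ Y x y) : ∃ A : Sylow p Γ, x ∈ A ∧ (A : Subgroup Γ) ≤ Y := by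
  have pg : IsPGroup p (zpowers x) := by
    rintro ⟨_, n, rfl⟩
    refine ⟨1, Subtype.ext ?_⟩
    show (x ^ n) ^ p ^ 1 = 1
    rw [pow_one, ← zpow_natCast, ← _root_.zpow_mul, mul_comm, _root_.zpow_mul, zpow_natCast, h.xp,
      _root_.one_zpow]
  obtain ⟨A, hA⟩ := pg.exists_le_sylow
  have hx : x ∈ (A : Subgroup Γ) := hA (mem_zpowers x)
  haveI : Nontrivial (A : Subgroup Γ) := ⟨⟨⟨x, hx⟩, 1, fun e => h.x1 (congrArg Subtype.val e)⟩⟩
  haveI := A.isPGroup'.center_nontrivial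
  obtain ⟨z, hz⟩ := exists_ne (1 : center (A : Subgroup Γ))
  have hc : ∀ b ∈ (A : Subgroup Γ), b * z.1.1 = z.1.1 * b := fun b hb =>
    congrArg Subtype.val (mem_center_iff.1 z.2 ⟨b, hb⟩)
  have h1 : z.1.1 ∈ Y := h.emb x h.xY h.x1 ⟨1, by rw [pow_one, h.xp]⟩ _ (by
    rw [← hc x hx, mul_inv_cancel_right]; exact h.xY)
  obtain ⟨k, hk⟩ := A.isPGroup' z.1
  refine ⟨A, hx, fun a ha => h.emb _ h1 (fun e => hz (Subtype.ext (Subtype.ext e)))
    ⟨k, congrArg Subtype.val hk⟩ a ?_⟩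
  rw [hc a ha, mul_inv_cancel_right]
  exact h1

theorem exists_syl (A : Sylow p Γ) {M : Subgroup Γ} [hM : M.Normal] (h : ¬ Pf p M) :
    ∃ a ∈ (A : Subgroup Γ) ⊓ M, a ≠ 1 ∧ ∃ k : ℕ, a ^ p ^ k = 1 := by
  unfold Pf at h
  push Not at h
  obtain ⟨g, hg, k, hk, h1⟩ := h
  have pg : IsPGroup p (zpowers g) := by
    rintro ⟨_, n, rfl⟩
    refine ⟨k, Subtype.ext ?_⟩
    show (g ^ n) ^ p ^ k = 1
    rw [← zpow_natCast, ← _root_.zpow_mul, mul_comm, _root_.zpow_mul, zpow_natCast, hk,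
      _root_.one_zpow]
  obtain ⟨c, -, hc⟩ := (isSylowIn_top A).exists_conj_mem pg le_top
  exact ⟨_, ⟨hc g (mem_zpowers g), hM.conj_mem g hg c⟩, by simpa using h1, k, by
    rw [conj_pow, hk]; simp⟩

omit [IsAlgClosed K] [FiniteDimensional K W] in
theorem Su.pf_of_le (h : Su p ρ Y x y) {M : Subgroup Γ} [hM : M.Normal] (hY : M ≤ Y) : Pf p M := by
  by_contra hn
  obtain ⟨A, -, hA⟩ := h.syl
  obtain ⟨a, ha, h1, hk⟩ := exists_syl A hn
  exact h.yY (h.emb a (hY ha.2) h1 hk y (hY (hM.conj_mem a ha.2 y)))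

theorem Su.faith (h : Su p ρ Y x y) {g : Γ} (hg : ∀ μ : Γ →* SL(2, K), Pl μ x y → μ g = 1) :
    g = 1 := by
  let I : Subgroup Γ := ⨅ μ : {μ : Γ →* SL(2, K) // Pl μ x y}, μ.1.ker
  haveI : I.Normal := normal_iInf_normal fun μ => μ.1.normal_ker
  have h1 : ∀ a ∈ I, ∃ k : ℕ, a ^ p ^ k = 1 := fun a ha => by
    obtain ⟨k, hk⟩ := pow_of_nil (nil_of_pl h.gen a _ ρ rfl h.qx h.qy fun μ hμ _ =>
      mem_iInf.1 ha ⟨μ, hμ⟩)
    exact ⟨k, h.inj (by rw [map_pow, hk, map_one])⟩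
  obtain ⟨A, -, hA⟩ := h.syl
  have h2 : IsPGroup p I := fun a => (h1 a a.2).imp fun k hk => Subtype.ext hk
  have h3 := h.pf_of_le ((h2.le_sylow_of_normal A).trans hA)
  have h4 : g ∈ I := mem_iInf.2 fun μ => hg μ.1 μ.2
  obtain ⟨k, hk⟩ := h1 g h4
  exact h3 g h4 k hk

theorem Su.ker_pf (h : Su p ρ Y x y) {μ : Γ →* SL(2, K)} (hμ : Pl μ x y) : Pf p μ.ker := by
  obtain ⟨A, hx, hA⟩ := h.syl
  obtain ⟨M, ⟨hM, hM'⟩, hmin⟩ := WellFounded.has_min wellFounded_lt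
    {M : Subgroup Γ | M.Normal ∧ ¬ Pf p M} ⟨⊤, inferInstance, fun hh =>
      h.x1 (hh x (mem_top x) 1 (by rw [pow_one, h.xp]))⟩
  have c1 : ∀ ν : Γ →* SL(2, K), ¬ M ≤ ν.ker → Pf p ν.ker := fun ν hν => by
    by_contra hn
    have h1 : Pf p (M ⊓ ν.ker) := by
      by_contra h1
      exact hmin _ ⟨inferInstance, h1⟩ (lt_of_le_of_ne inf_le_left fun e => hν (e ▸ inf_le_right))
    obtain ⟨a, ha, a1, k, hk⟩ := exists_syl A hn
    refine hM' (h.pf_of_le fun m hm => h.emb a (hA ha.1) a1 ⟨k, hk⟩ m ?_)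
    rw [h1.comm (h.pf_cen h1) (commutator_le_inf M ν.ker (commutator_mem_commutator hm ha.2)) hk,
      mul_inv_cancel_right]
    exact hA ha.1
  refine c1 μ fun hle => ?_
  obtain ⟨a, ha, a1, k, hk⟩ := exists_syl A hM'
  obtain ⟨ν, hν, hνa⟩ : ∃ ν : Γ →* SL(2, K), Pl ν x y ∧ ν a ≠ 1 := by
    by_contra hn
    push Not at hn
    exact a1 (h.faith hn)
  have h1 := c1 ν fun e => hνa (e ha.2)
  set N := normalizer (((A : Subgroup Γ) ⊓ M : Subgroup Γ) : Set Γ) with hN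
  have h2 : N.map μ = μ.range := by
    refine le_antisymm (map_le_range _ _) ?_
    rintro _ ⟨g, rfl⟩
    obtain ⟨n, hn, e⟩ := (sylow_inf_normal A M).frattini (H := ⊤) (by
      rw [normalizer_eq_top]) (mem_top g)
    exact ⟨_, e, by rw [map_mul, show μ n = 1 from hle hn, one_mul]⟩
  obtain ⟨l, hl, e1, -⟩ := id hν
  have h3 : N.map ν ≤ bor K := by
    rintro _ ⟨g, hg, rfl⟩
    obtain ⟨s, hs⟩ := all_up ν A.isPGroup' hx hl e1 ha.1
    obtain ⟨t, ht⟩ := all_up ν A.isPGroup' hx hl e1 ((mem_normalizer_iff.1 hg a).1 ha).1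
    rw [map_mul, map_mul, map_inv, hs] at ht
    exact tri_of_conj (fun e => hνa (by rw [hs, e, up_zero])) ht
  have h4 : ⁅⁅N, N⁆, ⁅N, N⁆⁆ ≤ center Γ := by
    refine le_trans ?_ (h.pf_cen h1)
    rw [← Subgroup.map_eq_bot_iff, eq_bot_iff, ← bor_comm2, map_commutator, map_commutator]
    exact commutator_mono (commutator_mono h3 h3) (commutator_mono h3 h3)
  have h5 := hμ.comm h.p5 h.gen (hμ.comm h.p5 h.gen (hμ.comm h.p5 h.gen h2))
  rw [commutator_eq_bot_iff_le_centralizer.2 (h4.trans (center_le_centralizer _)),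
    Subgroup.map_bot] at h5
  exact (hμ.perf h.p5 h.gen).2.1 h5.symm

theorem Su.cen_of_sq (h : Su p ρ Y x y) {μ : Γ →* SL(2, K)} (hμ : Pl μ x y) {g : Γ}
    (hg : μ g * μ g = 1) : g ∈ center Γ := by
  have h1 := h.ker_pf hμ
  have h2 : ∀ a, ⁅g, a⁆ ∈ μ.ker := fun a => by
    rw [MonoidHom.mem_ker, map_commutatorElement, commutatorElement_eq_one_iff_mul_comm]
    exact comm_of_sq (two_ne h.p5) hg _
  exact h.cen (h1.comm (h.pf_cen h1) (h2 x) (k := 1) (by rw [pow_one, h.xp]))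
    (h1.comm (h.pf_cen h1) (h2 y) (k := 1) (by rw [pow_one, h.yp]))

omit hp [CharP K p] [IsAlgClosed K] [Finite Γ] in
theorem Pl.sq {μ : Γ →* SL(2, K)} (hμ : Pl μ x y) {g : Γ} (hg : g ∈ center Γ) : μ g * μ g = 1 := by
  obtain ⟨l, hl, e1, e2⟩ := hμ
  refine sq_of_comm hl ?_ ?_
  · rw [← e1, ← map_mul, ← map_mul, mem_center_iff.1 hg]
  · rw [← e2, ← map_mul, ← map_mul, mem_center_iff.1 hg]

theorem Su.main (h : Su p ρ Y x y) : ∃ t ∈ center Γ, (ρ t + 1) * (ρ x - 1) = 0 ∧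
    (ρ t + 1) * (ρ y - 1) = 0 := by
  obtain ⟨ν, hν⟩ : ∃ ν : Γ →* SL(2, K), Pl ν x y := by
    by_contra hn
    exact h.x1 (h.faith fun μ hμ => absurd ⟨μ, hμ⟩ hn)
  obtain ⟨-, -, e, e2, e4⟩ := hν.perf h.p5 h.gen
  have ht : e * e ∈ center Γ := h.cen_of_sq hν (by rw [← e4, map_mul]; simp [pow_succ, mul_assoc])
  set t := e * e with hte
  have t1 : ∀ μ : Γ →* SL(2, K), Pl μ x y → μ t ≠ 1 := fun μ hμ h1 =>
    e2 (by rw [pow_two, hν.sq (h.cen_of_sq hμ (by rw [← map_mul]; exact h1))])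
  have t2 : ρ t * ρ t = 1 := by
    rw [← map_mul, h.faith (g := t * t) fun μ hμ => by rw [map_mul, hμ.sq ht], map_one]
  have h2 : (2 : K) ≠ 0 := two_ne h.p5
  let ε : Module.End K W := (2 : K)⁻¹ • (ρ t + 1)
  have hc : ∀ g, ρ g * ε = ε * ρ g := fun g => by
    simp only [ε, mul_smul_comm, smul_mul_assoc, mul_add, add_mul, mul_one, one_mul, ← map_mul,
      mem_center_iff.1 ht g]
  have he : ε * ρ t = ε := by
    simp only [ε, smul_mul_assoc, add_mul, t2, one_mul, add_comm]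
  have hε : ε * ε = ε := by
    conv_lhs => rw [show ε * ε = (2 : K)⁻¹ • (ε * ρ t + ε) by
      simp only [ε, mul_smul_comm, mul_add, mul_one], he, ← two_smul K, smul_smul,
      inv_mul_cancel₀ h2, one_smul]
  have hm : ∀ a b : Module.End K W, a * ε = ε * a → (ε * a) * (ε * b) = ε * (a * b) :=
    fun a b ha => by rw [mul_assoc, ← mul_assoc a, ha, ← mul_assoc, ← mul_assoc, hε, mul_assoc]
  have hc' : ∀ g, (ρ g - 1) * ε = ε * (ρ g - 1) := fun g => by
    rw [sub_mul, mul_sub, hc, one_mul, mul_one]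
  let σ : Γ →* Module.End K W :=
    { toFun := fun g => 1 + ε * (ρ g - 1)
      map_one' := by simp
      map_mul' := fun g k => by
        rw [add_mul, mul_add, mul_add, hm _ _ (hc' g), map_mul]
        noncomm_ring }
  have hσ : ∀ g, σ g - 1 = ε * (ρ g - 1) := fun g => add_sub_cancel_left _ _
  have hq : ∀ g, (ρ g - 1) * (ρ g - 1) = 0 → (σ g - 1) * (σ g - 1) = 0 := fun g hg => by
    rw [hσ, hm _ _ (hc' g), hg, mul_zero]
  have hu : ∀ g, ∃ k : ℕ, σ g ^ p ^ k = 1 := fun g =>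
    pow_of_nil (nil_of_pl h.gen g _ σ rfl (hq x h.qx) (hq y h.qy) fun μ hμ hk =>
      absurd (hk t (by rw [← sub_eq_zero, hσ, mul_sub, he, mul_one, sub_self])) (t1 μ hμ))
  have hP : IsPGroup p (Γ ⧸ σ.ker) := fun g => by
    obtain ⟨g, rfl⟩ := QuotientGroup.mk_surjective g
    obtain ⟨k, hk⟩ := hu g
    exact ⟨k, by rw [← QuotientGroup.mk_pow, QuotientGroup.eq_one_iff, MonoidHom.mem_ker, map_pow,
      hk]⟩
  haveI := hP.isNilpotent
  obtain ⟨n, hn⟩ := (inferInstance : Group.IsSolvable (Γ ⧸ σ.ker)).solvable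
  have h3 : ∀ m, (derivedSeries Γ m).map ν = ν.range := fun m => by
    induction m with
    | zero => exact (MonoidHom.range_eq_map ν).symm
    | succ m ih => exact hν.comm h.p5 h.gen ih
  have h4 : derivedSeries Γ n ≤ σ.ker := by
    have := map_derivedSeries_le_derivedSeries (QuotientGroup.mk' σ.ker) n
    rwa [hn, le_bot_iff, Subgroup.map_eq_bot_iff, QuotientGroup.ker_mk'] at this
  have h5 : ∀ g, g ^ p = 1 → (ρ t + 1) * (ρ g - 1) = 0 := fun g hg => by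
    obtain ⟨m, hm, e⟩ := (h3 n).ge (⟨g, rfl⟩ : ν g ∈ ν.range)
    have k1 : m⁻¹ * g ∈ ν.ker := by rw [MonoidHom.mem_ker, map_mul, map_inv, e, inv_mul_cancel]
    have k2 : σ (m⁻¹ * g) = σ g := by rw [map_mul, show σ m⁻¹ = 1 from inv_mem (h4 hm), one_mul]
    have k3 : σ g = 1 := (h.ker_pf hν).eq_one k1
      (by rw [← k2, ← map_pow, pow_orderOf_eq_one, map_one]) (by rw [← map_pow, hg, map_one])
    have k4 := hσ g
    rw [k3, sub_self, smul_mul_assoc, eq_comm, smul_eq_zero] at k4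
    exact k4.resolve_left (inv_ne_zero h2)
  exact ⟨t, ht, h5 x h.xp, h5 y h.yp⟩

instance instQUAD : QUAD.{u} where
  out := fun {p} _ {G V} _ _ _ _ _ ρ {H x y} hp5 inj emb xH x1 yH qx qy => by
    classical
    let K := AlgebraicClosure (ZMod p)
    let B := Module.finBasis (ZMod p) V
    let n := Module.finrank (ZMod p) V
    let φ : Module.End (ZMod p) V →+* Module.End K (Fin n → K) :=
      (Matrix.toLinAlgEquiv' (R := K) (n := Fin n)).toRingEquiv.toRingHom.comp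
        ((algebraMap (ZMod p) K).mapMatrix.comp
          (LinearMap.toMatrixAlgEquiv B).toRingEquiv.toRingHom)
    have hφi : Function.Injective φ := (Matrix.toLinAlgEquiv' (R := K) (n := Fin n)).injective.comp
      ((Matrix.map_injective (algebraMap (ZMod p) K).injective).comp
        (LinearMap.toMatrixAlgEquiv B).injective)
    set L := closure ({x, y} : Set G) with hL
    have m1 : x ∈ L := subset_closure (by simp)
    have m2 : y ∈ L := subset_closure (by simp)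
    have hq : ∀ g, (ρ g - 1) * (ρ g - 1) = 0 → (φ (ρ g) - 1) * (φ (ρ g) - 1) = 0 := fun g hg => by
      rw [← map_one φ, ← map_sub, ← map_mul, hg, map_zero]
    have h : Su p (φ.toMonoidHom.comp (ρ.comp L.subtype)) (H.subgroupOf L) ⟨x, m1⟩ ⟨y, m2⟩ :=
      { p5 := hp5
        inj := hφi.comp (inj.comp Subtype.val_injective)
        gen := gen_sub x y
        emb := fun a ha a1 ⟨k, hk⟩ g hg => emb a ha (fun e => a1 (Subtype.ext e))
          ⟨k, congrArg Subtype.val hk⟩ g hg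
        xY := xH
        x1 := fun e => x1 (congrArg Subtype.val e)
        yY := yH
        qx := hq x qx
        qy := hq y qy }
    obtain ⟨t, ht, h1, h2⟩ := h.main
    have hr : ∀ g, (φ (ρ t) + 1) * (φ (ρ g) - 1) = 0 → (ρ t + 1) * (ρ g - 1) = 0 := fun g hg =>
      hφi (by rw [map_mul, map_add, map_sub, map_one, hg, map_zero])
    exact ⟨t, t.2, (congrArg Subtype.val (mem_center_iff.1 ht ⟨x, m1⟩)).symm,
      (congrArg Subtype.val (mem_center_iff.1 ht ⟨y, m2⟩)).symm, hr x h1, hr y h2⟩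

end Cfsg.Agent.M9.Qd
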