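import Cfsg.Agent.M9.S3

/-! The case of a non-normal Sylow subgroup of `N(z)`; the instance `SMALL`. -/

set_option autoImplicit false
set_option linter.unusedSectionVars false
set_option linter.unusedSimpArgs false

namespace Cfsg.Agent.M9

open Subgroup Cfsg.Agent.H1 Cfsg.Agent.L Cfsg.Agent.FT Module

universe u

section
variable {p : ℕ} [hp : Fact p.Prime] {G V : Type*} [Group G] [AddCommGroup V] [Module (ZMod p) V]
  {ρ : G →* End (ZMod p) V} {P Q H X : Subgroup G} {s z g h u : G} {v₀ v w : V}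
  {A B L : End (ZMod p) V} {i j d e n k : ℕ} {a c c' : ZMod p} {lam : G → ZMod p}
  {φ : V →ₗ[ZMod p] ZMod p}

variable (p) in
/-- the subgroup generated by the `p`-elements of `C(z)` -/
def pcl (z : G) : Subgroup G := closure {x | x * z = z * x ∧ ∃ n : ℕ, x ^ p ^ n = 1}

theorem pcl_comm (hg : g ∈ pcl p z) : g * z = z * g :=
  mem_centralizer_singleton_iff.1 ((closure_le _).2
    (fun _ hx => mem_centralizer_singleton_iff.2 hx.1) hg)

theorem pcl_norm [Finite G] : 𝐍(zpowers z) ≤ 𝐍(pcl p z) := fun g hg => by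
  refine mem_normalizer_of_conj_mem fun x hx => ?_
  induction hx using closure_induction with
  | mem x hx =>
    obtain ⟨h1, n, h2⟩ := hx
    obtain ⟨i, hi⟩ := (mem_normalizer_iff.1 (inv_mem hg) z).1 (mem_zpowers z)
    have h3 := ((show Commute x z from h1).zpow_right i).eq
    rw [show z ^ i = _ from hi] at h3
    refine subset_closure ⟨?_, n, by rw [conj_pow, h2]; simp⟩
    calc g * x * g⁻¹ * z = g * (x * (g⁻¹ * z * g⁻¹⁻¹)) * g⁻¹ := by group
      _ = z * (g * x * g⁻¹) := by rw [h3]; group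
  | one => simp
  | mul a b _ _ ha hb => simpa [mul_assoc] using mul_mem ha hb
  | inv a _ ha => simpa [mul_assoc] using inv_mem ha

theorem Cg.app_inv (h1 : Cg ρ s v₀ j c (A (bs ρ s v₀ j)))
    (hA : ∀ v ∈ W ρ s (j + 1), A v ∈ W ρ s (j + 1)) (h : Cg ρ s v₀ j c' v) :
    Cg ρ s v₀ j (c' * c) (A v) := by
  refine (h1.smul c').of_sub ?_
  have := hA _ h
  rwa [map_sub, map_smul] at this

variable (ρ s X) in
/-- `W j` is invariant -/
def Inv (j : ℕ) : Prop := ∀ g ∈ X, ∀ v ∈ W ρ s j, ρ g v ∈ W ρ s j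

theorem Cfg.triv (C : Cfg ρ P Q H s v₀) (h1 : Inv ρ (pcl p z) s j) (h2 : Inv ρ (pcl p z) s (j + 1))
    (hg : g ∈ pcl p z) (hv : v ∈ W ρ s j) : ρ g v - v ∈ W ρ s (j + 1) := by
  induction hg using closure_induction generalizing v with
  | mem x hx =>
    by_cases hb : bs ρ s v₀ j = 0
    · rw [C.W_eq_zero hb hv]; simp
    have hx' : x ∈ pcl p z := subset_closure hx
    obtain ⟨c, hc⟩ := C.ex (h1 x hx' _ (bs_mem (v₀ := v₀) j))
    have h3 : ∀ n, Cg ρ s v₀ j (c ^ n) (ρ (x ^ n) (bs ρ s v₀ j)) := fun n => by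
      induction n with
      | zero => simpa using cg_bs j
      | succ n ih => rw [pow_succ' x, rho_mul, pow_succ]; exact hc.app_inv (h2 x hx') ih
    obtain ⟨n, hn⟩ := hx.2
    have h4 := h3 (p ^ n)
    rw [hn, ZMod.pow_card_pow, map_one] at h4
    obtain rfl := C.uniq hb h4 (cg_bs j)
    obtain ⟨c', hc'⟩ := C.ex hv
    simpa using sub_mem (hc.app_inv (h2 x hx') hc') hc'
  | one => simp
  | mul a b _ hb ha hb' => simpa [rho_mul] using add_mem (ha (h1 b hb v hv)) (hb' hv)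
  | inv a ha ha' => simpa [rho_inv'] using neg_mem (ha' (h1 _ (inv_mem ha) v hv))

namespace Sm
variable [Finite G] (C : Sm ρ P H s z v₀ k a)
include C

theorem le_pcl : P ≤ pcl p z := fun _ hu =>
  subset_closure ⟨(C.abel hu C.zP).eq, 1, by simpa using C.pow_p hu⟩

theorem exists_sec (hB : ¬ 𝐍(zpowers z) ≤ 𝐍(P)) : ∃ α d, 2 ≤ d ∧ α + d ≤ k ∧
    (∀ j ≤ α, Inv ρ (pcl p z) s j) ∧ Inv ρ (pcl p z) s (α + d) ∧
    ∀ e, 0 < e → e < d → ¬ Inv ρ (pcl p z) s (α + e) := by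
  classical
  have hex : ∃ j, ¬ Inv ρ (pcl p z) s j := by
    by_contra! hI
    obtain ⟨R, hR, hRp, hRX, -⟩ := chain (X := pcl p z) (n := p - 1) C.inj (W ρ s) (fun _ => W_zero)
      (fun v => C.W_big le_rfl) fun g hg j => hI j g hg
    have h1 : pcl p z = R := le_antisymm (fun g hg => (hR g).2 ⟨hg, fun j v hv =>
      C.triv (hI j) (hI _) hg hv⟩) hRX
    exact hB (C.syl.maximal _ (h1 ▸ hRp) C.le_pcl le_top ▸ pcl_norm)
  have h0 : Inv ρ (pcl p z) s 0 := fun _ _ _ _ => W_zero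
  have hstep : ∀ j, Inv ρ (pcl p z) s j → Inv ρ (pcl p z) s (j + k) := fun j hj g hg =>
    C.img_inv (comm_sub2 C.comm.symm) C.a0 C.lz (c' := 1)
      (by rw [one_smul]; exact (comm_sub (pcl_comm hg)).eq) (hj g hg)
  obtain ⟨α, hα⟩ : ∃ α, Nat.find hex = α + 1 := Nat.exists_eq_succ_of_ne_zero fun e =>
    Nat.find_spec hex (e ▸ h0)
  have h1 : ∀ j ≤ α, Inv ρ (pcl p z) s j := fun j hj => not_not.1 (Nat.find_min hex (by omega))
  have h2 : ¬ Inv ρ (pcl p z) s (α + 1) := hα ▸ Nat.find_spec hex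
  have hk := C.k2
  have h3 : α + 1 < k := by
    by_contra h
    exact h2 (by simpa [Nat.sub_add_cancel (not_lt.1 h)] using hstep _ (h1 (α + 1 - k) (by omega)))
  have h4 : 0 < k - α ∧ Inv ρ (pcl p z) s (α + (k - α)) :=
    ⟨by omega, by simpa [Nat.add_sub_cancel' (show α ≤ k by omega)] using hstep 0 h0⟩
  have hex2 : ∃ d, 0 < d ∧ Inv ρ (pcl p z) s (α + d) := ⟨_, h4⟩
  have h5 := Nat.find_spec hex2
  refine ⟨α, Nat.find hex2, ?_, by have := Nat.find_min' hex2 h4; omega, h1, h5.2,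
    fun e h6 h7 h8 => Nat.find_min hex2 h7 ⟨h6, h8⟩⟩
  by_contra h
  exact h2 ((show Nat.find hex2 = 1 by omega) ▸ h5.2)

variable (E : Wt ρ P s z v₀ k lam)
include E

theorem num (hB : ¬ 𝐍(zpowers z) ≤ 𝐍(P)) : p - 1 = 2 * k ∧ 3 ≤ k := by
  obtain ⟨α, d, hd, hk, hI, hId, hmin⟩ := C.exists_sec hB
  obtain ⟨L, hL, hLc, hLw⟩ := C.exists_L E
  have hP := C.le_pcl
  have hkp := C.lt_of_bs C.bk
  have hLj : ∀ j, L ^ j - (1 : ZMod p) • (ρ s - 1) ^ j ∈ Deg ρ s (j + 1) := fun j => by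
    simpa using lead_pow hL j
  have T : Tw ρ s (ρ.comp (pcl p z).subtype) ⟨s, hP C.sP⟩ ⟨z, hP C.zP⟩ k α d :=
    C.tw (Subtype.ext C.comm) rfl rfl rfl rfl (fun g => hI α le_rfl g g.2) fun g => hId g g.2
  have hF := C.frX hP (n := p - 1) le_rfl
  have l1 : ∀ h ∈ 𝐍(P).subgroupOf (pcl p z), lam h ^ k = 1 := fun h hh => by
    obtain ⟨b, h1, h2⟩ := E.zz h hh
    rw [pcl_comm h.2, mul_inv_cancel_right, eq_comm, ← pow_one z, ← pow_mul, one_mul,
      pow_eq_pow_iff_modEq, C.ord_z, ← ZMod.natCast_eq_natCast_iff] at h1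
    rw [← h2, h1, Nat.cast_one]
  have l2 : ∀ h ∈ 𝐍(P).subgroupOf (pcl p z), lam h ^ (k + 1 + α) = lam h := fun h hh => by
    rcases α.eq_zero_or_pos with rfl | hα
    · rw [add_zero, pow_succ, l1 h hh, one_mul]
    have := C.uniq (C.bs_ne k.zero_le) (E.cg h hh 0)
      ((cg_bs 0).of_sub (C.triv (hI 0 hα.le) (hI 1 hα) h.2 W_zero))
    rw [add_zero, pow_succ, l1 h hh, one_mul] at this
    rw [this, one_pow]
  have b1 : p + 1 < 3 * d := by
    by_contra hn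
    obtain ⟨φ, hφ0, hφ⟩ := C.exists_phi (C.bs_ne (show α ≤ k by omega))
    obtain ⟨ψ, hψ0, hψ⟩ := C.exists_phi (C.bs_ne (show α + 1 ≤ k by omega))
    refine hmin 1 one_pos hd fun g hg v hv => ?_
    have := T.ker_inv hF (fun w hw => hφ0 w (W_anti (by omega) hw))
      (χ := fun h : pcl p z => (lam h)⁻¹ ^ (k + 1 + α)) (fun h hh w hw => C.phi_wt E hφ hh hw)
      (T.opFn (Deg_mono zero_le_one (Deg_lead hL)) (χ := fun h : pcl p z => lam h) (fun h hh => hLw h hh)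
        (φ := ψ) (fun w hw => hψ0 w (W_anti (by omega) hw)) (bs_mem (v₀ := v₀) α))
      (by simpa using hψ _ _ ((cg_bs α).app hL))
      (fun h hh => by rw [inv_pow, l2 h hh]; exact inv_mul_cancel₀ (E.ne _ hh)) (by omega) ⟨g, hg⟩
      (W_anti α.le_succ hv) (hφ0 v hv)
    obtain ⟨c, hc⟩ := C.ex (hI α le_rfl g hg v (W_anti α.le_succ hv))
    exact cg_zero.1 (((hφ _ _ hc).symm.trans this) ▸ hc)
  have g1 := Nat.gcd_dvd_left k (p - 1)
  have g2 := Nat.gcd_dvd_right k (p - 1)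
  have g3 := Nat.gcd_pos_of_pos_left (p - 1) (show 0 < k by omega)
  have g4 := Nat.le_of_dvd (by omega) (Nat.dvd_sub g2 g1)
  have g5 := Nat.le_of_dvd (by omega) g1
  have b2 : d ≤ k.gcd (p - 1) := by
    by_contra hn
    obtain ⟨B, hB1, hB2⟩ := T.avg hF (Deg_mono (Nat.zero_le _) (Deg_lead (hLj (k.gcd (p - 1)))))
      fun h hh => by
        have := wt_pow (hLw h hh) (k.gcd (p - 1))
        rwa [pow_gcd_eq_one.2 ⟨l1 h hh, ZMod.pow_card_sub_one_eq_one (E.ne _ hh)⟩, one_smul] at this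
    have h1 := ((cg_bs (v₀ := v₀) α).app (hLj (k.gcd (p - 1)))).of_sub
      (hB2 (_ + 1) (by omega) (by omega) _ (bs_mem α))
    have h2 : Commute B (ρ s - 1) := by
      have : ρ s * B = B * ρ s := hB1 ⟨s, hP C.sP⟩
      simp only [Commute, SemiconjBy, mul_sub, sub_mul, this, mul_one, one_mul]
    refine hmin _ g3 (by omega) fun g hg v hv => ?_
    obtain ⟨w, hw, rfl⟩ := (C.img h2 (by simp) h1).1 hv
    exact (C.img h2 (by simp) h1).2 ⟨_, hI α le_rfl g hg w hw,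
      (LinearMap.congr_fun (hB1 ⟨g, hg⟩).eq w).symm⟩
  obtain ⟨t, ht⟩ := g2
  generalize k.gcd (p - 1) = e at *
  have : t = 2 := by
    rcases t with _ | _ | _ | t
    · omega
    · omega
    · rfl
    · simp only [Nat.mul_succ] at ht; omega
  subst this
  omega

theorem caseB (hB : ¬ 𝐍(zpowers z) ≤ 𝐍(P)) : False := by
  obtain ⟨h2k, hk⟩ := C.num E hB
  have h1 : ∀ x ∈ 𝐍(zpowers z), x * z * x⁻¹ = z ∨ x * z * x⁻¹ = z⁻¹ := fun x hx => by
    obtain ⟨n, hn, h⟩ := (C.syl.of_le C.le_pcl le_top).frattini pcl_norm hx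
    obtain ⟨b, h1, h2⟩ := E.zz _ h
    have h3 : x * z * x⁻¹ = z ^ b := by
      have : n⁻¹ * z ^ b = z ^ b * n⁻¹ := ((show Commute n z from pcl_comm hn).inv_left.pow_right b).eq
      calc x * z * x⁻¹ = n⁻¹ * (n * x * z * (n * x)⁻¹) * n := by group
        _ = z ^ b := by rw [h1, this]; group
    have h4 : (b : ZMod p) * b = 1 := by
      rw [h2, ← pow_add, ← two_mul, ← h2k, ZMod.pow_card_sub_one_eq_one (E.ne _ h)]
    rw [h3]
    refine (mul_self_eq_one_iff.1 h4).imp (fun e => ?_) fun e => ?_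
    · rw [← pow_one z, ← pow_mul, one_mul, pow_eq_pow_iff_modEq, C.ord_z,
        ← ZMod.natCast_eq_natCast_iff, e, Nat.cast_one]
    · rw [eq_inv_iff_mul_eq_one, ← pow_succ, ← orderOf_dvd_iff_pow_eq_one, C.ord_z,
        ← ZMod.natCast_eq_zero_iff, Nat.cast_succ, e, neg_add_cancel]
  have ha : 2 * a ≠ 0 := mul_ne_zero C.two_ne C.a0
  have h2 : ρ z - ρ z⁻¹ - (2 * a) • (ρ s - 1) ^ k ∈ Deg ρ s (k + 1) := by
    have h3 := C.P_deg (inv_mem C.zP)
    have h4 := Deg_mul (Deg_lead C.lz) h3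
    convert add_mem h4 (add_mem C.lz C.lz) using 1
    rw [mul_sub, sub_mul, ← map_mul, mul_inv_cancel, map_one, two_mul, add_smul]
    simp only [mul_one, one_mul]
    abel
  have h3 : (2 * a)⁻¹ • (ρ z - ρ z⁻¹) - (1 : ZMod p) • (ρ s - 1) ^ k ∈ Deg ρ s (k + 1) := by
    have := Submodule.smul_mem _ (2 * a)⁻¹ h2
    rwa [smul_sub _ (ρ z - _), smul_smul, inv_mul_cancel₀ ha] at this
  classical
  have h4 : ∀ x ∈ 𝐍(zpowers z), ρ x * ((2 * a)⁻¹ • (ρ z - ρ z⁻¹)) =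
      (if x * z * x⁻¹ = z then (1 : ZMod p) else -1) • ((2 * a)⁻¹ • (ρ z - ρ z⁻¹) * ρ x) := by
    intro x hx
    have e : ρ x * (ρ z - ρ z⁻¹) = (ρ (x * z * x⁻¹) - ρ (x * z * x⁻¹)⁻¹) * ρ x := by
      rw [mul_sub, sub_mul, ← map_mul, ← map_mul, ← map_mul, ← map_mul]; simp [mul_assoc]
    rw [mul_smul_comm, e, smul_mul_assoc]
    split_ifs with h
    · rw [h, one_smul]
    · rw [(h1 x hx).resolve_left h, inv_inv, neg_one_smul, ← smul_neg, ← neg_mul, neg_sub]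
  have h5 : Commute ((2 * a)⁻¹ • (ρ z - ρ z⁻¹)) (ρ s - 1) := by
    have := h4 s (C.NP_NT (le_normalizer C.sP))
    rw [if_pos (by rw [C.comm, mul_inv_cancel_right]), one_smul] at this
    simp only [Commute, SemiconjBy, mul_sub _ (ρ s), sub_mul (ρ s), this, mul_one, one_mul]
  have h0 : ∀ v ∈ W ρ s (0 + (p - 1)), v = 0 := fun v => C.W_big (by omega)
  have T := C.tw0 h0
  obtain ⟨ψ, -, hψ⟩ := C.exists_phi C.bk
  have h6 := Deg_mono k.zero_le (Deg_lead h3)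
  have h7 := Nat.mul_le_mul_right (p - 1) (show 4 ≤ k + 1 by omega)
  have := T.nm h0 rfl (C.frG (n := (k + 1) * (p - 1)) le_rfl) h6 h4
    (T.opFn h6 h4 (φ := ψ) (fun w hw => by rw [h0 w hw, map_zero]) (v := v₀) W_zero)
    (by
      have := (cg_bs (v₀ := v₀) 0).app h3
      rw [zero_add] at this
      simpa only [inv_one, map_one, End.one_apply, bs_zero, mul_one] using hψ _ _ this)
    (fun h _ => by split_ifs <;> simp) (by omega)
  refine C.fin fun i => ?_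
  have h4 := Nat.div_add_mod i k
  have h6 := Nat.mod_lt i (show 0 < k by omega)
  exact ⟨_, by rw [Nat.mul_succ]; omega, by rw [Nat.mul_succ]; omega,
    C.inv_step h3 h5 this (i := 0) (fun _ _ _ => W_zero) (i / k + 1)⟩

end Sm
end

instance instSMALL : SMALL.{u} where
  out := by
    intro p hp G V _ _ _ _ _ ρ P H s z v₀ C hz hc hw
    obtain ⟨k, a, hk, ha, hb, h1, h2⟩ := C.exists_lead (mem_zpowers z) hz hc
    have C' : Sm ρ P H s z v₀ k a := ⟨C, hz, hc, hk, ha, hb, C.lead_comm h1 h2, hw⟩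
    obtain ⟨lam, E⟩ := C'.exists_wt
    exact C'.caseB E (C'.caseA E)

end Cfsg.Agent.M9
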