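import Cfsg.Agent.M9.L

/-! The case of a nonabelian Sylow subgroup. -/

set_option autoImplicit false
set_option linter.unusedSectionVars false

namespace Cfsg.Agent.M9

open Subgroup Cfsg.Agent.H1 Cfsg.Agent.L Cfsg.Agent.FT Module

universe u

section
variable {p : ℕ} [hp : Fact p.Prime] {G V : Type*} [Group G] [AddCommGroup V] [Module (ZMod p) V]
  {ρ : G →* End (ZMod p) V} {P Q H X : Subgroup G} {s g h y z : G} {v₀ v w : V}
  {A B : End (ZMod p) V} {i j d e n k : ℕ} {c c' a : ZMod p}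

theorem Cg.neg (h : Cg ρ s v₀ j c v) : Cg ρ s v₀ j (-c) (-v) := by simpa using h.smul (-1)

theorem comm_sub (h : g * z = z * g) : Commute (ρ g) (ρ z - 1) :=
  (Commute.map h ρ).sub_right (Commute.one_right _)

namespace Cfg
variable (C : Cfg ρ P Q H s v₀)
include C

theorem app_bs (hA : A ∈ Deg ρ s d) (h1 : Cg ρ s v₀ (j + d) c' (A (bs ρ s v₀ j)))
    (h : Cg ρ s v₀ j c v) : Cg ρ s v₀ (j + d) (c * c') (A v) := by
  refine (h1.smul c).of_sub ?_
  have := hA _ _ h
  rwa [map_sub, map_smul, add_right_comm] at this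

theorem lt_of_bs (hj : bs ρ s v₀ j ≠ 0) : j + 1 < p := by
  by_contra h
  exact hj (C.W_big (by omega) (bs_mem j))

theorem two_ne : (2 : ZMod p) ≠ 0 := by
  intro h
  have := Nat.le_of_dvd two_pos ((ZMod.natCast_eq_zero_iff 2 p).1 (by exact_mod_cast h))
  have := C.p5
  omega

theorem exists_dim : ∃ m, ∀ j, bs ρ s v₀ j = 0 ↔ m ≤ j := by
  classical
  have hex : ∃ j, bs ρ s v₀ j = 0 := ⟨p - 1, C.W_big le_rfl (bs_mem _)⟩
  exact ⟨Nat.find hex, fun j => ⟨fun h => Nat.find_min' hex h,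
    fun h => C.W_eq_zero (Nat.find_spec hex) (W_anti h (bs_mem j))⟩⟩

/-- the kernel of an operator with a leading term -/
theorem ker_lead {m r : ℕ} (hm : ∀ j, bs ρ s v₀ j = 0 ↔ m ≤ j) (hr : r + k = m) (ha : a ≠ 0)
    (hA : A - a • (ρ s - 1) ^ k ∈ Deg ρ s (k + 1)) : A v = 0 ↔ v ∈ W ρ s r := by
  constructor
  · intro h
    by_cases hv : v = 0
    · rw [hv]; exact zero_mem _
    obtain ⟨j, c, h1, -, h2⟩ := C.level hv
    refine W_anti ?_ h2.mem
    by_contra hj
    have h3 := h2.app hA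
    rw [h] at h3
    exact mul_ne_zero ha h1 (C.uniq (mt (hm _).1 (by omega)) h3 (cg_zero.2 (zero_mem _)))
  · intro h
    obtain ⟨c, hc⟩ := C.ex h
    exact C.W_eq_zero ((hm _).2 hr.ge) (hc.app hA).mem

set_option maxHeartbeats 1000000 in
theorem quad (hy : y ∈ Q) (hc : ∀ u ∈ P, u * z = z * u) (e : y * s * y⁻¹ = s * z)
    (hk' : bs ρ s v₀ (k + 1) ≠ 0) (ha : a ≠ 0) (h0 : Cg ρ s v₀ (k + 1) a ((ρ z - 1) v₀)) :
    bs ρ s v₀ (k + 1 + k) = 0 := by
  have hZN : Commute (ρ z - 1) (ρ s - 1) :=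
    ((comm_sub (hc s C.sP)).sub_left (Commute.one_left _)).symm
  have hZ := C.lead_comm hZN h0
  obtain ⟨F, hF, hF0⟩ := C.poly (ρ y v₀)
  have hFc : ∀ A, Commute (ρ s - 1) A → Commute F A := fun A hA =>
    Algebra.commute_of_mem_adjoin_singleton_of_commute hF hA.symm |>.symm
  have h1 : (ρ y - F) * (ρ s - 1) = (ρ s - 1) * (ρ y - F) + (ρ z - 1) * ρ (s * y) := by
    have h2 : ρ y * ρ s = ρ z * ρ s * ρ y := by
      rw [← map_mul, ← map_mul, ← map_mul, ← hc s C.sP, ← e]; simp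
    rw [sub_mul, mul_sub (ρ s - 1), (hFc _ (Commute.refl _)).eq, map_mul, mul_sub, h2]
    noncomm_ring
  have h2 : (ρ z - 1) * ρ (s * y) - a • (ρ s - 1) ^ (k + 1) ∈ Deg ρ s (k + 1 + 1) := by
    have h3 := C.P_deg (mul_mem C.sP (C.QP hy))
    have h4 := Deg_mul hZ (Deg_of_sub h3)
    have h5 := Submodule.smul_mem _ a (Deg_mul (Deg_pow (Deg_N (ρ := ρ) (s := s)) (k + 1)) h3)
    rw [one_mul] at h5
    convert add_mem h4 h5 using 1
    simp only [mul_sub, sub_mul, smul_sub, smul_mul_assoc, mul_one]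
    abel
  have h3 : ∀ j : ℕ, Cg ρ s v₀ (j + k) (j * a) ((ρ y - F) (bs ρ s v₀ j)) := by
    intro j
    induction j with
    | zero => simp [bs_zero, hF0, cg_zero]
    | succ j ih =>
      rw [← N_bs 1 j, pow_one, ← End.mul_apply, h1, LinearMap.add_apply, End.mul_apply]
      have h4 := ih.app (A := ρ s - 1) (d := 1) (c' := 1) (by simp)
      have h5 := (cg_bs (v₀ := v₀) j).app h2
      rw [← add_assoc] at h5
      convert h4.add h5 using 1
      · omega
      · push_cast; ring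
  have h4 := C.app_bs (C.deg fun j => (h3 j).mem) (h3 (k + 1)) h0
  have h5 : Commute (ρ y - F) (ρ z - 1) := (comm_sub (hc y (C.QP hy))).sub_left (hFc _ hZN.symm)
  rw [← End.mul_apply, h5.eq, End.mul_apply, LinearMap.sub_apply (ρ y), hF0, sub_self, map_zero] at h4
  by_contra hn
  refine mul_ne_zero ha (mul_ne_zero ?_ ha) (C.uniq hn h4 (cg_zero.2 (zero_mem _)))
  rw [Ne, ZMod.natCast_eq_zero_iff]
  exact fun h => absurd (Nat.le_of_dvd k.succ_pos h) (by have := C.lt_of_bs hk'; omega)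

end Cfg

theorem sub_mem_of_closure {S : Set G} {U : Submodule (ZMod p) V}
    (hS : ∀ x ∈ S, ∀ v, ρ x v - v ∈ U) (hg : g ∈ closure S) (v : V) : ρ g v - v ∈ U := by
  induction hg using closure_induction generalizing v with
  | mem x hx => exact hS x hx v
  | one => simp
  | mul a b _ _ ha hb => simpa [rho_mul] using add_mem (ha (ρ b v)) (hb v)
  | inv a _ ha => simpa [rho_inv'] using neg_mem (ha (ρ a⁻¹ v))

theorem fix_of_closure {S : Set G} (hS : ∀ x ∈ S, ρ x v = v) (hg : g ∈ closure S) : ρ g v = v := by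
  induction hg using closure_induction with
  | mem x hx => exact hS x hx
  | one => simp
  | mul a b _ _ ha hb => rw [rho_mul, hb, ha]
  | inv a _ ha => rw [← ha, rho_inv, ha]

/-- an element acting by a scalar on a factor commutes with everything there -/
theorem comm_factor {U U' : Submodule (ZMod p) V} (hg : ∀ v ∈ U, ρ g⁻¹ v ∈ U)
    (hh : ∀ v ∈ U, ρ h⁻¹ v ∈ U) (hh1 : ∀ v ∈ U, ρ h v ∈ U) (hh2 : ∀ v ∈ U', ρ h v ∈ U')
    (hc : ∀ v ∈ U, ρ g v - c • v ∈ U') (hv : v ∈ U) : ρ (g * h * g⁻¹ * h⁻¹) v - v ∈ U' := by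
  have h1 := hg _ (hh _ hv)
  simpa [rho_mul, rho_inv'] using sub_mem (hc _ (hh1 _ h1)) (hh2 _ (hc _ h1))

end

instance instBIG [QUAD.{u}] : BIG.{u} where
  out := by
    intro p hp G V _ _ _ _ _ ρ P Q H s v₀ C y hy z hz hz1 hc e
    obtain ⟨k, a, hk, ha, hk', hZN, h0⟩ := C.exists_lead hz hz1 (hc s C.sP)
    obtain ⟨k, rfl⟩ : ∃ k', k = k' + 1 := ⟨k - 1, by omega⟩
    have hq := C.quad hy hc e hk' ha h0
    obtain ⟨m, hm⟩ := C.exists_dim
    obtain ⟨r, hr⟩ : ∃ r, r + (k + 1) = m := ⟨m - (k + 1), by have := mt (hm _).2 hk'; omega⟩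
    have hr1 : 1 ≤ r := by have := mt (hm _).2 hk'; omega
    have hrk : r ≤ k := by have := (hm _).1 hq; omega
    have hZ := C.lead_comm hZN h0
    have hker : ∀ v, (ρ z - 1) v = 0 ↔ v ∈ W ρ s r := fun v => C.ker_lead hm hr ha hZ
    have him : ∀ v, v ∈ W ρ s (k + 1) ↔ ∃ u, (ρ z - 1) u = v := fun v => by
      simpa [W_zero] using C.img (i := 0) hZN ha h0
    have hZZ : (ρ z - 1) * (ρ z - 1) = 0 := LinearMap.ext fun v =>
      (hker _).2 (W_anti (by omega) ((him _).2 ⟨v, rfl⟩))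
    obtain ⟨g, hg⟩ : ∃ g, g ∉ H := by
      by_contra! h
      exact C.ne (eq_top_iff.2 fun g _ => h g)
    have hzH := C.PH (C.QP hz)
    have hz' : g * z * g⁻¹ ∉ H := fun h => by
      obtain ⟨n, hn⟩ := C.syl.isPGroup ⟨z, C.QP hz⟩
      exact hg (C.emb z hzH hz1 ⟨n, congrArg Subtype.val hn⟩ g h)
    have hZ' : ρ (g * z * g⁻¹) - 1 = ρ g * (ρ z - 1) * ρ g⁻¹ := by
      rw [mul_sub, sub_mul, mul_one, ← map_mul, ← map_mul, ← map_mul]; simp
    have hZZ' : (ρ (g * z * g⁻¹) - 1) * (ρ (g * z * g⁻¹) - 1) = 0 := LinearMap.ext fun v => by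
      have := LinearMap.congr_fun hZZ (ρ g⁻¹ v)
      simp only [hZ', End.mul_apply, rho_inv] at this ⊢
      rw [this, LinearMap.zero_apply, map_zero, LinearMap.zero_apply]
    obtain ⟨t, ht, htz, -, h1, h2⟩ := QUAD.out ρ C.p5 C.inj C.emb hzH hz1 hz' hZZ hZZ'
    have hcm : ∀ x, x * z = z * x → ∀ v, ρ x ((ρ z - 1) v) = (ρ z - 1) (ρ x v) := fun x hx v =>
      LinearMap.congr_fun (comm_sub hx).eq v
    have t1 : ∀ v, ρ t v - (-1 : ZMod p) • v ∈ W ρ s r := fun v => (hker _).1 (by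
      have := LinearMap.congr_fun h1 v
      rw [End.mul_apply, LinearMap.add_apply, hcm t htz, End.one_apply, ← map_add] at this
      rwa [neg_one_smul, sub_neg_eq_add])
    have t3 : ∀ v ∈ W ρ s (k + 1), ρ t v - (-1 : ZMod p) • v ∈ W ρ s m := fun v hv => by
      obtain ⟨u, rfl⟩ := (him v).1 hv
      have := LinearMap.congr_fun h1 u
      simp only [End.mul_apply, LinearMap.add_apply, End.one_apply, LinearMap.zero_apply] at this
      rw [neg_one_smul, sub_neg_eq_add, this]; exact zero_mem _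
    have t2 : ∀ v ∈ W ρ s r, ρ t v - (1 : ZMod p) • v ∈ W ρ s (k + 1) := fun v hv => by
      obtain ⟨b, hb, _, ⟨u, rfl⟩, h3⟩ := Submodule.mem_sup.1 (sub_mem_of_closure (ρ := ρ)
        (U := W ρ s (k + 1) ⊔ LinearMap.range (ρ (g * z * g⁻¹) - 1)) (by
          rintro x (rfl | rfl) v
          exacts [Submodule.mem_sup_left ((him _).2 ⟨v, rfl⟩), Submodule.mem_sup_right ⟨v, rfl⟩]) ht v)
      have h4 : (ρ z - 1) ((ρ (g * z * g⁻¹) - 1) u) = 0 := by
        rw [eq_sub_of_add_eq' h3, map_sub, map_sub, ← hcm t htz, (hker _).2 hv,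
          (hker _).2 (W_anti (by omega) hb)]; simp
      have h5 := fix_of_closure (ρ := ρ) (v := (ρ (g * z * g⁻¹) - 1) u) (by
        rintro x (rfl | rfl)
        exacts [sub_eq_zero.1 h4, sub_eq_zero.1 (LinearMap.congr_fun hZZ' u)]) ht
      have h6 := LinearMap.congr_fun h2 u
      simp only [End.mul_apply, LinearMap.add_apply, End.one_apply, LinearMap.zero_apply] at h6
      rw [h5, ← two_smul (ZMod p), smul_eq_zero_iff_right C.two_ne] at h6
      rw [one_smul, ← h3, h6, add_zero]; exact hb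
    let f : ℕ → ℕ := fun j => match j with
      | 0 => 0 | 1 => r | 2 => k + 1 | _ => m
    have hW0 : ∀ v ∈ W ρ s m, v = 0 := fun v => C.W_eq_zero ((hm m).2 le_rfl)
    have hinv : ∀ x ∈ centralizer ({z} : Set G), ∀ j, ∀ v ∈ W ρ s (f j), ρ x v ∈ W ρ s (f j) := by
      intro x hx j v hv
      have hx' := hcm x (mem_centralizer_singleton_iff.1 hx)
      match j with
      | 0 => exact W_zero
      | 1 => exact (hker _).1 (by rw [← hx', (hker _).2 hv, map_zero])
      | 2 => obtain ⟨u, rfl⟩ := (him v).1 hv; exact (him _).2 ⟨_, (hx' u).symm⟩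
      | j + 3 => rw [hW0 v hv, map_zero]; exact zero_mem _
    obtain ⟨R, hR, hRp, hRX, hXR⟩ := chain (n := 3) C.inj (fun j => W ρ s (f j)) (fun _ => W_zero)
      hW0 hinv
    have hPX : P ≤ centralizer ({z} : Set G) := fun u hu => mem_centralizer_singleton_iff.2 (hc u hu)
    have htX : t ∈ centralizer ({z} : Set G) := mem_centralizer_singleton_iff.2 htz
    have hsX := hPX C.sP
    have h3 : t * s * t⁻¹ * s⁻¹ ∈ R := by
      refine (hR _).2 ⟨mul_mem (mul_mem (mul_mem htX hsX) (inv_mem htX)) (inv_mem hsX),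
        fun j v hv => ?_⟩
      have : ∃ c : ZMod p, ∀ v ∈ W ρ s (f j), ρ t v - c • v ∈ W ρ s (f (j + 1)) := by
        match j with
        | 0 => exact ⟨_, fun v _ => t1 v⟩
        | 1 => exact ⟨_, t2⟩
        | 2 => exact ⟨_, t3⟩
        | j + 3 => exact ⟨0, fun v hv => by rw [hW0 v hv]; simp⟩
      obtain ⟨c, hc⟩ := this
      exact comm_factor (hinv _ (inv_mem htX) j) (hinv _ (inv_mem hsX) j) (hinv _ hsX j)
        (hinv _ hsX _) hc hv
    have h4 := mul_mem ((C.syl.of_le hPX le_top).le_of_normalized hRp hRX hXR h3) C.sP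
    rw [inv_mul_cancel_right] at h4
    obtain ⟨n, hn⟩ := C.dec _ h4
    have key : ∀ j i c, j < m → j < i → ρ t (bs ρ s v₀ j) - c • bs ρ s v₀ j ∈ W ρ s i →
        (n : ZMod p) ^ j * -1 = c := fun j i c hj hi h =>
      C.uniq (mt (hm j).1 hj.not_ge) (C.wt hn (W_anti hr1 (t1 _)) j) (W_anti hi h)
    have w1 := key r _ _ (by omega) (by omega) (t2 _ (bs_mem r))
    have hne : (1 : ZMod p) ≠ -1 := fun h => C.two_ne (by linear_combination h)
    obtain rfl : r = 1 := by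
      by_contra hr2
      have := key 1 _ _ (by omega) (show 1 < r by omega) (t1 _)
      rw [pow_one, mul_neg_one, neg_inj] at this
      exact hne (by simpa [this] using w1.symm)
    obtain rfl : k = 1 := by
      by_contra hk2
      have := key 2 _ _ (by omega) (show 2 < k + 1 by omega) (t2 _ (W_anti one_le_two (bs_mem 2)))
      exact hne (by linear_combination ((n : ZMod p) - 1) * w1 - this)
    have h3 : bs ρ s v₀ 3 = 0 := (hm 3).2 hr.ge
    have h5 := C.eq_zero (Deg_mul (C.Q_deg hy) Deg_N) h3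
    have h6 := C.eq_zero (Deg_mul Deg_N (C.Q_deg hy)) h3
    have h7 : y * s = s * y := C.inj (by
      rw [map_mul, map_mul]
      have : ρ y * ρ s - ρ s * ρ y = (ρ y - 1) * (ρ s - 1) - (ρ s - 1) * (ρ y - 1) := by noncomm_ring
      rw [← sub_eq_zero, this, h5, h6, sub_zero])
    rw [h7, mul_inv_cancel_right] at e
    exact hz1 (left_eq_mul.1 e)

end Cfsg.Agent.M9
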