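import Cfsg.Agent.M9.I
import Cfsg.Agent.H1.Cube2

/-! The linear group induced on the Frattini quotient of a normal essential subgroup. -/

set_option autoImplicit false
set_option linter.unusedSectionVars false

namespace Cfsg.Agent.M9

open Equiv Cfsg.Fus Cfsg.FusionSystem Subgroup Cfsg.Agent.H1 Cfsg.Agent.L Module
open scoped commutatorElement

universe u

variable {p : ℕ} [hp : Fact p.Prime]

/-- `A` is the group induced on `V = E / Φ`, and `π` describes the action of `G` -/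
structure FRep {G A V : Type*} [Group G] [Group A] [AddCommGroup V] [Module (ZMod p) V]
    (E Φ : Subgroup G) (ρ : A →* End (ZMod p) V) (π : G →* A) (vec : G → V) (H : Subgroup A) :
    Prop where
  inj : Function.Injective ρ
  ker : ∀ g, π g = 1 ↔ g ∈ E
  syl : IsSylowIn p π.range ⊤
  PH : π.range ≤ H
  ne : H ≠ ⊤
  emb : Emb p H
  mul : ∀ x ∈ E, ∀ y ∈ E, vec (x * y) = vec x + vec y
  zero : ∀ x ∈ E, vec x = 0 ↔ x ∈ Φ
  surj : ∀ v, ∃ x ∈ E, vec x = v
  act : ∀ g, ∀ x ∈ E, ρ (π g) (vec x) = vec (g * x * g⁻¹)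
  ext : ∀ a ∈ normalizer (π.range : Set A), ∃ β : G ≃* G,
    ∀ x ∈ E, β x ∈ E ∧ ρ a (vec x) = vec (β x)

/-- automorphisms of an elementary abelian group as linear maps -/
def autLin (p : ℕ) (M : Type*) [CommGroup M] [Module (ZMod p) (Additive M)] :
    MulAut M →* End (ZMod p) (Additive M) where
  toFun α := (MonoidHom.toAdditive α.toMonoidHom).toZModLinearMap p
  map_one' := rfl
  map_mul' _ _ := rfl

open scoped IsMulCommutative in
theorem exists_fRep {G : Type u} [Group G] [Finite G] {F : FusionSystem (⊤ : Subgroup G)}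
    {E : Subgroup G} (hG : IsPGroup p (⊤ : Subgroup G)) (hF : F.IsSaturated p)
    (hE : F.IsEssential p E) [E.Normal] : ∃ (A V : Type u) (_ : Group A) (_ : Finite A)
      (_ : AddCommGroup V) (_ : Finite V) (_ : Module (ZMod p) V) (ρ : A →* End (ZMod p) V)
      (π : G →* A) (vec : G → V) (H : Subgroup A), FRep E (phiF E) ρ π vec H := by
  classical
  have h := fSec_phiF hG hE
  haveI := h.normal
  haveI := h.comm
  haveI := finite_mulAut (E ⧸ (phiF E).subgroupOf E)
  have one : ∀ x : E, (x : E ⧸ (phiF E).subgroupOf E) = 1 ↔ (x : G) ∈ phiF E := fun x =>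
    QuotientGroup.eq_one_iff x
  letI : Module (ZMod p) (Additive (E ⧸ (phiF E).subgroupOf E)) :=
    AddCommGroup.zmodModule fun v => by
      obtain ⟨x, hx⟩ := QuotientGroup.mk_surjective (Additive.toMul v)
      rw [← ofMul_toMul v, ← hx, ← ofMul_pow, ofMul_eq_zero]
      exact (one (x ^ p)).2 (pow_mem_phiF hG le_top x.2)
  have nE : ∀ g : G, g ∈ normalizer (E : Set G) := fun g => normal_le_normalizer E ⊤ trivial
  let γ : G →* F.stab E := cj.codRestrict _ fun g => (F.iso_cj le_top trivial (nE g)).mem_stab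
  let π : G →* h.act.range := h.act.rangeRestrict.comp γ
  have mπ : ∀ σ : F.stab E, h.act.rangeRestrict σ ∈ π.range ↔ σ.1 ∈ innS ⊤ E := fun σ => by
    constructor
    · rintro ⟨g, hg⟩
      have h1 : (cj g)⁻¹ * σ.1 ∈ innS E E := (h.act_eq_one ((γ g)⁻¹ * σ)).1 (by
        rw [map_mul, map_inv, inv_mul_eq_one]; exact congrArg Subtype.val hg)
      exact (mul_mem_cancel_left (Subgroup.inv_mem _ (cj_mem_innS (mem_top g) (nE g)))).1 (innS_mono le_top E h1)
    · intro hσ
      obtain ⟨g, -, -, hg⟩ := mem_innS.1 hσ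
      refine ⟨g, Subtype.ext (MulEquiv.ext fun x => ?_)⟩
      obtain ⟨x, rfl⟩ := QuotientGroup.mk_surjective x
      exact congrArg QuotientGroup.mk (Subtype.ext (hg x x.2).symm)
  have pπ : IsPGroup p π.range :=
    (hG.of_equiv topEquiv).of_surjective π.rangeRestrict π.rangeRestrict_surjective
  obtain ⟨Y₀, hY₀⟩ := h.strEmb
  obtain ⟨Y, hY, hPY⟩ := hY₀.exists_ge finMod_bot (U := π.range.map h.act.range.subtype)
    (map_subtype_le _) (by
      rintro _ ⟨a, ha, rfl⟩
      obtain ⟨k, hk⟩ := pπ ⟨a, ha⟩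
      exact ⟨k, congrArg (fun x : π.range => x.1.1) hk⟩)
  refine ⟨h.act.range, Additive (E ⧸ (phiF E).subgroupOf E), inferInstance, inferInstance,
    inferInstance, inferInstance, inferInstance, (autLin p _).comp h.act.range.subtype, π,
    fun x => if hx : x ∈ E then Additive.ofMul (⟨x, hx⟩ : E) else 0, Y.subgroupOf _,
    fun a b e => Subtype.ext (MulEquiv.ext fun x => LinearMap.congr_fun e (Additive.ofMul x)),
    fun g => ?_, ⟨le_top, pπ, fun R hR h1 _ => le_antisymm (fun a ha => ?_) h1⟩,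
    fun a ha => hPY ⟨a, ha, rfl⟩, fun e => hY.ne (le_antisymm hY.le (subgroupOf_eq_top.1 e)),
    fun x hx h1 ⟨k, hk⟩ g hg => hY.mem x hx (fun e => h1 (Subtype.ext e))
      ⟨k, congrArg Subtype.val hk⟩ g g.2 hg, fun x hx y hy => ?_, fun x hx => ?_, fun v => ?_,
    fun g x hx => ?_, fun a ha => ?_⟩
  · rw [Subtype.ext_iff]
    exact (h.act_eq_one (γ g)).trans ⟨hE.isCentric.mem_of_cj_mem_innS trivial,
      fun hg => cj_mem_innS hg (nE g)⟩
  · obtain ⟨σ, rfl⟩ := h.act.rangeRestrict_surjective a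
    rw [mπ, ← (hE.isFullyNormalized.isFullyAutomized hF hG).le_innS
      (A := (R.comap h.act.rangeRestrict).map (F.stab E).subtype) (fun τ hτ =>
        ⟨⟨τ, F.innS_le_stab le_top hτ⟩, h1 ((mπ _).2 hτ), rfl⟩) (map_subtype_le _) ?_]
    · exact ⟨σ, ha, rfl⟩
    rintro _ ⟨τ, hτ, rfl⟩
    obtain ⟨k, hk⟩ := hR ⟨_, hτ⟩
    obtain ⟨l, hl⟩ := isPMod_innS (isPGroup_of_le hG le_top) E _ ((h.act_eq_one (τ ^ p ^ k)).1
      ((map_pow _ _ _).trans (congrArg (fun x : R => x.1.1) hk)))
    exact ⟨k + l, by rwa [pow_add, pow_mul]⟩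
  · simp only [dif_pos hx, dif_pos hy, dif_pos (E.mul_mem hx hy)]
    rfl
  · simp only [dif_pos hx]
    exact ofMul_eq_zero.trans (one _)
  · obtain ⟨x, hx⟩ := QuotientGroup.mk_surjective (Additive.toMul v)
    exact ⟨x, x.2, by simp only [dif_pos x.2]; exact congrArg Additive.ofMul hx⟩
  · simp only [dif_pos hx, dif_pos (Normal.conj_mem inferInstance x hx g)]
    rfl
  · obtain ⟨σ, rfl⟩ := h.act.rangeRestrict_surjective a
    have hσ := (mem_stab le_top).1 σ.2
    obtain ⟨α, h1, h2⟩ := (hE.isCentric.isReceptive hF hG).exists_ext_of_le hσ (T := ⊤)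
      (fun g _ => ⟨trivial, nE g⟩) fun g _ => (mπ (σ * γ g * σ⁻¹)).1 (by
        rw [map_mul, map_mul, map_inv]
        exact Fus.conj_mem_of_mem_normalizer ha ⟨g, rfl⟩)
    rw [sup_top_eq] at h1
    refine ⟨toAut (h1.iso_self fun _ _ => trivial), fun x hx => ?_⟩
    have h3 : toAut (h1.iso_self fun _ _ => trivial) x = σ.1 x := h2 x hx
    rw [h3]
    refine ⟨hσ.mem hx, ?_⟩
    simp only [dif_pos hx, dif_pos (hσ.mem hx)]
    rfl

end Cfsg.Agent.M9
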