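import Cfsg.Agent.FT.Basic4

/-! Interface for `S5269` (see notes/m9.md). -/

set_option autoImplicit false

namespace Cfsg.Agent.M9

open Subgroup Cfsg.Agent.H1 Cfsg.Agent.L Cfsg.Agent.FT

universe u

/-- `H` is strongly `p`-embedded (if it is proper and of order divisible by `p`) -/
def Emb (p : ℕ) {G : Type*} [Group G] (H : Subgroup G) : Prop :=
  ∀ x ∈ H, x ≠ 1 → (∃ k : ℕ, x ^ p ^ k = 1) → ∀ g, g * x * g⁻¹ ∈ H → g ∈ H

variable {p : ℕ} [Fact p.Prime] {G V : Type*} [Group G] [AddCommGroup V] [Module (ZMod p) V]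

/-- the flag of the regular unipotent element `s` -/
def W (ρ : G →* Module.End (ZMod p) V) (s : G) (j : ℕ) : Submodule (ZMod p) V :=
  LinearMap.range ((ρ s - 1) ^ j)

/-- a linear group with a strongly `p`-embedded subgroup `H` and a Sylow subgroup `P = ⟨s⟩ Q`, where
`s` has a single Jordan block of size `< p` and `Q` moves the flag of `s` by two steps -/
structure Cfg (ρ : G →* Module.End (ZMod p) V) (P Q H : Subgroup G) (s : G) (v₀ : V) : Prop where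
  p5 : 5 ≤ p
  inj : Function.Injective ρ
  syl : IsSylowIn p P ⊤
  PH : P ≤ H
  ne : H ≠ ⊤
  emb : Emb p H
  sP : s ∈ P
  QP : Q ≤ P
  dec : ∀ u ∈ P, ∃ n : ℕ, (s ^ n)⁻¹ * u ∈ Q
  cyc : ∀ v, ∃ c : ZMod p, v - c • v₀ ∈ W ρ s 1
  nil : (ρ s - 1) ^ (p - 1) = 0
  sh : ∀ q ∈ Q, ∀ j, ∀ v ∈ W ρ s j, (ρ q - 1) v ∈ W ρ s (j + 2)

/-- slice: two quadratic elements -/
class QUAD : Prop where
  out : ∀ {p : ℕ} [Fact p.Prime] {G V : Type u} [Group G] [Finite G] [AddCommGroup V] [Finite V]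
    [Module (ZMod p) V] (ρ : G →* Module.End (ZMod p) V) {H : Subgroup G} {x y : G}, 5 ≤ p →
    Function.Injective ρ → Emb p H → x ∈ H → x ≠ 1 → y ∉ H → (ρ x - 1) * (ρ x - 1) = 0 →
    (ρ y - 1) * (ρ y - 1) = 0 → ∃ t ∈ closure {x, y}, t * x = x * t ∧ t * y = y * t ∧
      (ρ t + 1) * (ρ x - 1) = 0 ∧ (ρ t + 1) * (ρ y - 1) = 0

/-- slice: `P` nonabelian -/
class BIG : Prop where
  out : ∀ {p : ℕ} [Fact p.Prime] {G V : Type u} [Group G] [Finite G] [AddCommGroup V] [Finite V]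
    [Module (ZMod p) V] {ρ : G →* Module.End (ZMod p) V} {P Q H : Subgroup G} {s : G} {v₀ : V},
    Cfg ρ P Q H s v₀ → ∀ y ∈ Q, ∀ z ∈ Q, z ≠ 1 → (∀ u ∈ P, u * z = z * u) →
      y * s * y⁻¹ = s * z → False

/-- slice: `P` of order `p ^ 2` -/
class SMALL : Prop where
  out : ∀ {p : ℕ} [Fact p.Prime] {G V : Type u} [Group G] [Finite G] [AddCommGroup V] [Finite V]
    [Module (ZMod p) V] {ρ : G →* Module.End (ZMod p) V} {P H : Subgroup G} {s z : G} {v₀ : V},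
    Cfg ρ P (zpowers z) H s v₀ → z ≠ 1 → s * z = z * s →
      (∀ h ∈ 𝐍(P), ∃ a b : ℕ, (s ^ a)⁻¹ * (h * s * h⁻¹) ∈ zpowers z ∧ h * z * h⁻¹ = z ^ b ∧
        ρ h v₀ - ((a * b : ℕ) : ZMod p) • v₀ ∈ W ρ s 1) → False

end Cfsg.Agent.M9
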