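import Cfsg.Agent.M9.I

/-! Linear algebra of a regular unipotent element. -/

set_option autoImplicit false
set_option linter.unusedSectionVars false

namespace Cfsg.Agent.M9

open Subgroup Cfsg.Agent.H1 Cfsg.Agent.L Cfsg.Agent.FT Module

variable {p : ℕ} [hp : Fact p.Prime] {G V : Type*} [Group G] [AddCommGroup V] [Module (ZMod p) V]
  {ρ : G →* End (ZMod p) V} {P Q H X : Subgroup G} {s g h : G} {v₀ v w : V}
  {A B : End (ZMod p) V} {i j d e n : ℕ} {c c' : ZMod p}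

theorem rho_inv (g : G) (v : V) : ρ g⁻¹ (ρ g v) = v := by
  rw [← End.mul_apply, ← map_mul, inv_mul_cancel, map_one, End.one_apply]

theorem rho_inv' (g : G) (v : V) : ρ g (ρ g⁻¹ v) = v := by
  rw [← End.mul_apply, ← map_mul, mul_inv_cancel, map_one, End.one_apply]

theorem rho_mul (g h : G) (v : V) : ρ (g * h) v = ρ g (ρ h v) := by rw [map_mul, End.mul_apply]

theorem W_zero : v ∈ W ρ s 0 := ⟨v, by simp⟩

theorem W_pow (hv : v ∈ W ρ s j) (i : ℕ) : ((ρ s - 1) ^ i) v ∈ W ρ s (j + i) := by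
  obtain ⟨u, rfl⟩ := hv
  exact ⟨u, by rw [add_comm, pow_add, End.mul_apply]⟩

theorem W_succ (hv : v ∈ W ρ s j) : (ρ s - 1) v ∈ W ρ s (j + 1) := by simpa using W_pow hv 1

theorem W_anti (h : i ≤ j) (hv : v ∈ W ρ s j) : v ∈ W ρ s i := by
  obtain ⟨d, rfl⟩ := Nat.exists_eq_add_of_le h
  obtain ⟨u, rfl⟩ := hv
  exact ⟨((ρ s - 1) ^ d) u, by rw [pow_add, End.mul_apply]⟩

variable (ρ s) in
/-- operators that raise the degree by `d` -/
def Deg (d : ℕ) : Submodule (ZMod p) (End (ZMod p) V) where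
  carrier := {A | ∀ j, ∀ v ∈ W ρ s j, A v ∈ W ρ s (j + d)}
  add_mem' h1 h2 j v hv := add_mem (h1 j v hv) (h2 j v hv)
  zero_mem' _ _ _ := zero_mem _
  smul_mem' c _ h j v hv := Submodule.smul_mem _ c (h j v hv)

theorem Deg_mul (h1 : A ∈ Deg ρ s d) (h2 : B ∈ Deg ρ s e) : A * B ∈ Deg ρ s (d + e) :=
  fun j v hv => by
    have := h1 _ _ (h2 j v hv)
    rwa [add_assoc, add_comm e] at this

theorem Deg_mono (h : d ≤ e) (h1 : A ∈ Deg ρ s e) : A ∈ Deg ρ s d :=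
  fun j v hv => W_anti (by omega) (h1 j v hv)

theorem Deg_one : (1 : End (ZMod p) V) ∈ Deg ρ s 0 := fun _ _ hv => hv

theorem Deg_N : ρ s - 1 ∈ Deg ρ s 1 := fun _ _ hv => W_succ hv

theorem Deg_pow (h : A ∈ Deg ρ s d) (n : ℕ) : A ^ n ∈ Deg ρ s (d * n) := by
  induction n with
  | zero => exact Deg_one
  | succ n ih => rw [pow_succ, Nat.mul_succ]; exact Deg_mul ih h

theorem Deg_of_sub (h : A - 1 ∈ Deg ρ s d) : A ∈ Deg ρ s 0 := by
  simpa using add_mem (Deg_mono d.zero_le h) Deg_one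

theorem Deg_mul_sub (h1 : A - 1 ∈ Deg ρ s d) (h2 : B - 1 ∈ Deg ρ s d) : A * B - 1 ∈ Deg ρ s d := by
  have : A * B - 1 = A * (B - 1) + (A - 1) := by noncomm_ring
  rw [this]
  exact add_mem (by simpa using Deg_mul (Deg_of_sub h1) h2) h1

theorem pow_sub_Deg (n : ℕ) : ρ s ^ n - 1 - (n : ZMod p) • (ρ s - 1) ∈ Deg ρ s 2 := by
  induction n with
  | zero => simp
  | succ n ih =>
    have : ρ s ^ (n + 1) - 1 - ((n + 1 : ℕ) : ZMod p) • (ρ s - 1) =
        (ρ s ^ n - 1 - (n : ZMod p) • (ρ s - 1)) * ρ s + (n : ZMod p) • ((ρ s - 1) * (ρ s - 1)) := by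
      simp only [pow_succ, Nat.cast_succ, add_smul, one_smul, sub_mul, mul_sub, smul_sub,
        smul_mul_assoc, one_mul, mul_one]
      abel
    rw [this]
    have h1 : ρ s ∈ Deg ρ s 0 := Deg_of_sub Deg_N
    have h2 := Deg_mul ih h1
    have h3 : (ρ s - 1) * (ρ s - 1) ∈ Deg ρ s (1 + 1) := Deg_mul Deg_N Deg_N
    exact add_mem h2 (Submodule.smul_mem _ _ h3)

variable (ρ s v₀) in
/-- the Jordan basis -/
def bs (j : ℕ) : V := ((ρ s - 1) ^ j) v₀

theorem bs_mem (j : ℕ) : bs ρ s v₀ j ∈ W ρ s j := ⟨v₀, rfl⟩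

theorem bs_zero : bs ρ s v₀ 0 = v₀ := rfl

theorem N_bs (i j : ℕ) : ((ρ s - 1) ^ i) (bs ρ s v₀ j) = bs ρ s v₀ (j + i) := by
  rw [bs, bs, add_comm, pow_add, End.mul_apply]

variable (ρ s v₀) in
/-- `v ≡ c e_j` -/
def Cg (j : ℕ) (c : ZMod p) (v : V) : Prop := v - c • bs ρ s v₀ j ∈ W ρ s (j + 1)

theorem Cg.mem (h : Cg ρ s v₀ j c v) : v ∈ W ρ s j := by
  simpa using add_mem (W_anti j.le_succ h) (Submodule.smul_mem _ c (bs_mem (v₀ := v₀) j))

theorem cg_bs (j : ℕ) : Cg ρ s v₀ j 1 (bs ρ s v₀ j) := by simp [Cg]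

theorem cg_zero : Cg ρ s v₀ j 0 v ↔ v ∈ W ρ s (j + 1) := by simp [Cg]

theorem Cg.smul (h : Cg ρ s v₀ j c v) (a : ZMod p) : Cg ρ s v₀ j (a * c) (a • v) := by
  simpa [Cg, smul_sub, smul_smul] using Submodule.smul_mem _ a h

theorem Cg.add (h : Cg ρ s v₀ j c v) (h' : Cg ρ s v₀ j c' w) : Cg ρ s v₀ j (c + c') (v + w) := by
  have := add_mem h h'
  rwa [sub_add_sub_comm, ← add_smul] at this

theorem Cg.of_sub (h : Cg ρ s v₀ j c v) (h' : w - v ∈ W ρ s (j + 1)) : Cg ρ s v₀ j c w := by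
  simpa [Cg] using add_mem h' h

/-- leading terms -/
theorem Cg.app (h : Cg ρ s v₀ j c v) (hA : A - c' • (ρ s - 1) ^ d ∈ Deg ρ s (d + 1)) :
    Cg ρ s v₀ (j + d) (c' * c) (A v) := by
  have h1 := hA j v h.mem
  have h2 := Submodule.smul_mem _ c' (W_pow h d)
  rw [map_sub, map_smul, N_bs, add_right_comm] at h2
  rw [← add_assoc] at h1
  have := add_mem h1 h2
  simpa [Cg, smul_sub, smul_smul] using this

theorem pow_char_eq_one {n : ℕ} (h : (A - 1) ^ n = 0) : A ^ p ^ n = 1 := by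
  rcases subsingleton_or_nontrivial V with hV | hV
  · exact Subsingleton.elim _ _
  haveI : CharP (End (ZMod p) V) p := charP_of_injective_algebraMap
    (algebraMap (ZMod p) (End (ZMod p) V)).injective p
  have h2 := pow_eq_zero_of_le (Nat.lt_pow_self hp.out.one_lt).le h
  rwa [sub_pow_char_pow_of_commute _ _ (Commute.one_right _), one_pow, sub_eq_zero] at h2

/-- the stabiliser of an invariant chain is a normal `p`-subgroup -/
theorem chain [Finite G] (hi : Function.Injective ρ) (U : ℕ → Submodule (ZMod p) V)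
    (h0 : ∀ v, v ∈ U 0) (hn : ∀ v ∈ U n, v = 0) (hX : ∀ g ∈ X, ∀ j, ∀ v ∈ U j, ρ g v ∈ U j) :
    ∃ R : Subgroup G, (∀ g, g ∈ R ↔ g ∈ X ∧ ∀ j, ∀ v ∈ U j, ρ g v - v ∈ U (j + 1)) ∧ IsPGroup p R ∧
      R ≤ X ∧ X ≤ 𝐍(R) := by
  let R : Subgroup G :=
    { carrier := {g | g ∈ X ∧ ∀ j, ∀ v ∈ U j, ρ g v - v ∈ U (j + 1)}
      one_mem' := ⟨one_mem _, fun j v _ => by simp⟩
      mul_mem' := fun {a b} ha hb => ⟨mul_mem ha.1 hb.1, fun j v hv => by
        simpa [rho_mul] using add_mem (ha.2 j _ (hX b hb.1 j v hv)) (hb.2 j v hv)⟩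
      inv_mem' := fun {a} ha => ⟨inv_mem ha.1, fun j v hv => by
        simpa [rho_inv'] using neg_mem (ha.2 j _ (hX _ (inv_mem ha.1) j v hv))⟩ }
  have hc : ∀ x ∈ X, ∀ g ∈ R, x * g * x⁻¹ ∈ R := fun x hx g hg =>
    ⟨mul_mem (mul_mem hx hg.1) (inv_mem hx), fun j v hv => by
      simpa [rho_mul, rho_inv'] using hX x hx _ _ (hg.2 j _ (hX _ (inv_mem hx) j v hv))⟩
  refine ⟨R, fun _ => Iff.rfl, fun g => ⟨n, Subtype.ext (hi ?_)⟩, fun _ h => h.1, fun x hx => ?_⟩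
  · have : ∀ j v, ((ρ g - 1) ^ j) v ∈ U j := by
      intro j v
      induction j with
      | zero => exact h0 _
      | succ j ih => rw [pow_succ', End.mul_apply]; exact g.2.2 j _ ih
    rw [SubgroupClass.coe_pow, map_pow, pow_char_eq_one (LinearMap.ext fun v => hn _ (this n v))]
    simp
  · rw [mem_normalizer_iff]
    exact fun g => ⟨hc x hx g, fun h => by simpa [mul_assoc] using hc _ (inv_mem hx) _ h⟩

namespace Cfg
variable (C : Cfg ρ P Q H s v₀)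
include C

theorem ex (hv : v ∈ W ρ s j) : ∃ c, Cg ρ s v₀ j c v := by
  obtain ⟨u, rfl⟩ := hv
  obtain ⟨c, hc⟩ := C.cyc u
  refine ⟨c, ?_⟩
  have := W_pow hc j
  rwa [map_sub, map_smul, add_comm] at this

theorem W_big (h : p - 1 ≤ j) (hv : v ∈ W ρ s j) : v = 0 := by
  obtain ⟨u, rfl⟩ := W_anti h hv
  rw [C.nil]; rfl

theorem ind {U : Submodule (ZMod p) V} (h : ∀ i, j ≤ i → bs ρ s v₀ i ∈ U) (hv : v ∈ W ρ s j) :
    v ∈ U := by
  induction hn : p - 1 - j generalizing j v with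
  | zero => rw [C.W_big (by omega) hv]; exact zero_mem _
  | succ n ih =>
    obtain ⟨c, hc⟩ := C.ex hv
    simpa using add_mem (ih (fun i hi => h i (by omega)) hc (by omega))
      (Submodule.smul_mem _ c (h j le_rfl))

theorem deg (h : ∀ j, A (bs ρ s v₀ j) ∈ W ρ s (j + d)) : A ∈ Deg ρ s d := fun j _ hv =>
  C.ind (U := (W ρ s (j + d)).comap A) (fun i hi => W_anti (by omega) (h i)) hv

omit C in
theorem _root_.Cfsg.Agent.M9.comm_bs (h : Commute A (ρ s - 1)) (i j : ℕ) :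
    A (bs ρ s v₀ (i + j)) = ((ρ s - 1) ^ j) (A (bs ρ s v₀ i)) := by
  rw [← N_bs, ← End.mul_apply, (h.pow_right j).eq, End.mul_apply]

theorem deg_comm (h : Commute A (ρ s - 1)) (h0 : A v₀ ∈ W ρ s d) : A ∈ Deg ρ s d :=
  C.deg fun j => by
    have := comm_bs (v₀ := v₀) h 0 j
    rw [zero_add] at this
    rw [this, add_comm]; exact W_pow h0 j

theorem lead_comm (h : Commute A (ρ s - 1)) (h0 : Cg ρ s v₀ d c (A v₀)) :
    A - c • (ρ s - 1) ^ d ∈ Deg ρ s (d + 1) :=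
  C.deg_comm (h.sub_left (((Commute.refl _).pow_left d).smul_left c)) h0

theorem eq_zero (h : A ∈ Deg ρ s d) (hd : bs ρ s v₀ d = 0) : A = 0 := by
  ext v
  have := h 0 v W_zero
  rw [zero_add] at this
  exact C.ind (U := ⊥) (fun i hi => by
    obtain ⟨e, rfl⟩ := Nat.exists_eq_add_of_le hi
    rw [← N_bs, hd, map_zero]; rfl) this

theorem W_eq_zero (hd : bs ρ s v₀ d = 0) (hv : v ∈ W ρ s d) : v = 0 := by
  obtain ⟨u, rfl⟩ := hv
  rw [C.eq_zero (A := (ρ s - 1) ^ d) (by simpa using Deg_pow (Deg_N (ρ := ρ) (s := s)) d) hd]; rfl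

theorem bs_eq_zero (h : bs ρ s v₀ j ∈ W ρ s (j + 1)) : bs ρ s v₀ j = 0 := by
  have h1 : ∀ v ∈ W ρ s j, v ∈ W ρ s (j + 1) := fun v hv => C.ind (fun i hi => by
    rcases hi.eq_or_lt with rfl | hi
    exacts [h, W_anti hi (bs_mem i)]) hv
  have h2 : ∀ i, ∀ v ∈ W ρ s j, v ∈ W ρ s (j + i) := by
    intro i
    induction i with
    | zero => exact fun _ h => h
    | succ i ih =>
      intro v hv
      obtain ⟨u, rfl⟩ := h1 v hv
      have := W_succ (ih _ ⟨u, rfl⟩)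
      rwa [← End.mul_apply, ← pow_succ'] at this
  exact C.W_big (by omega) (h2 (p - 1) _ (bs_mem j))

theorem uniq (hj : bs ρ s v₀ j ≠ 0) (h : Cg ρ s v₀ j c v) (h' : Cg ρ s v₀ j c' v) : c = c' := by
  by_contra hn
  have h1 := sub_mem h' h
  rw [sub_sub_sub_cancel_left, ← sub_smul] at h1
  have := Submodule.smul_mem _ (c - c')⁻¹ h1
  rw [smul_smul, inv_mul_cancel₀ (sub_ne_zero.2 hn), one_smul] at this
  exact hj (C.bs_eq_zero this)

theorem level (hv : v ≠ 0) : ∃ j c, c ≠ 0 ∧ bs ρ s v₀ j ≠ 0 ∧ Cg ρ s v₀ j c v := by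
  classical
  have hex : ∃ j, v ∉ W ρ s (j + 1) := ⟨p - 1, fun h => hv (C.W_big (by omega) h)⟩
  have h1 : v ∈ W ρ s (Nat.find hex) := by
    rcases h : Nat.find hex with _ | j
    · exact W_zero
    · exact not_not.1 (Nat.find_min hex (by omega))
  obtain ⟨c, hc⟩ := C.ex h1
  exact ⟨_, c, fun e => Nat.find_spec hex (cg_zero.1 (e ▸ hc)),
    fun e => hv (C.W_eq_zero e h1), hc⟩

theorem exists_phi (hj : bs ρ s v₀ j ≠ 0) : ∃ φ : V →ₗ[ZMod p] ZMod p,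
    (∀ v ∈ W ρ s (j + 1), φ v = 0) ∧ ∀ c v, Cg ρ s v₀ j c v → φ v = c := by
  obtain ⟨f, h1, h2⟩ := LinearMap.exists_extend_of_notMem (0 : W ρ s (j + 1) →ₗ[ZMod p] ZMod p)
    (fun h => hj (C.bs_eq_zero h)) 1
  have h3 : ∀ v ∈ W ρ s (j + 1), f v = 0 := fun v hv => by simpa using congr($h1 ⟨v, hv⟩)
  refine ⟨f, h3, fun c v h => ?_⟩
  have := h3 _ h
  rwa [map_sub, map_smul, h2, smul_eq_mul, mul_one, sub_eq_zero] at this

/-- the image of a member of the flag under an operator commuting with `s` -/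
theorem img (h : Commute A (ρ s - 1)) (hc : c ≠ 0) (h0 : Cg ρ s v₀ j c (A (bs ρ s v₀ i))) :
    v ∈ W ρ s j ↔ ∃ u ∈ W ρ s i, A u = v := by
  constructor
  · intro hv
    have key : ∀ n l, p - 1 - l = n → ∀ v ∈ W ρ s (j + l), v ∈ (W ρ s i).map A := by
      intro n
      induction n with
      | zero => intro l hl v hv; rw [C.W_big (by omega) hv]; exact zero_mem _
      | succ n ih =>
        intro l hl v hv
        obtain ⟨a, ha⟩ := C.ex hv
        have h1 : Cg ρ s v₀ (j + l) (1 * c) (A (bs ρ s v₀ (i + l))) := by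
          rw [comm_bs h]; exact h0.app (by simp)
        have h2 := sub_mem ha (h1.smul (a * c⁻¹))
        rw [one_mul, inv_mul_cancel_right₀ hc, sub_sub_sub_cancel_right] at h2
        simpa using add_mem (ih (l + 1) (by omega) _ h2) (Submodule.smul_mem _ (a * c⁻¹)
          (Submodule.mem_map_of_mem (f := A) (W_anti (Nat.le_add_right i l) (bs_mem (v₀ := v₀) _))))
    exact key _ 0 rfl v hv
  · rintro ⟨u, hu, rfl⟩
    refine C.ind (U := (W ρ s j).comap A) (fun l hl => ?_) hu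
    obtain ⟨e, rfl⟩ := Nat.exists_eq_add_of_le hl
    rw [Submodule.mem_comap, comm_bs h]
    exact W_anti (Nat.le_add_right _ _) (W_pow h0.mem e)

theorem poly (v : V) : ∃ F ∈ Algebra.adjoin (ZMod p) {ρ s - 1}, F v₀ = v :=
  C.ind (U := (Subalgebra.toSubmodule (Algebra.adjoin (ZMod p) {ρ s - 1})).map
    (LinearMap.applyₗ v₀)) (fun i _ => ⟨_, pow_mem (Algebra.self_mem_adjoin_singleton _ _) i, rfl⟩)
    W_zero

theorem Q_deg (hq : g ∈ Q) : ρ g - 1 ∈ Deg ρ s 2 := C.sh g hq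

theorem lead (hq : (s ^ n)⁻¹ * g ∈ Q) : ρ g - 1 - (n : ZMod p) • (ρ s - 1) ^ 1 ∈ Deg ρ s 2 := by
  have e : ρ g = ρ s ^ n * ρ ((s ^ n)⁻¹ * g) := by rw [← map_pow, ← map_mul]; simp
  have : ρ g - 1 - (n : ZMod p) • (ρ s - 1) ^ 1 = ρ s ^ n * (ρ ((s ^ n)⁻¹ * g) - 1) +
      (ρ s ^ n - 1 - (n : ZMod p) • (ρ s - 1)) := by rw [mul_sub, ← e, pow_one, mul_one]; abel
  rw [this]
  exact add_mem (by simpa using Deg_mul (Deg_pow (Deg_of_sub Deg_N) n) (C.Q_deg hq)) (pow_sub_Deg n)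

theorem P_deg (hg : g ∈ P) : ρ g - 1 ∈ Deg ρ s 1 := by
  obtain ⟨n, hn⟩ := C.dec g hg
  simpa using add_mem (Deg_mono one_le_two (C.lead hn)) (Submodule.smul_mem _ (n : ZMod p) Deg_N)

theorem wt_deg (hh : h * s * h⁻¹ ∈ P) : ρ h ∈ Deg ρ s 0 := by
  rintro j _ ⟨u, rfl⟩
  have e : ρ h * (ρ s - 1) = (ρ (h * s * h⁻¹) - 1) * ρ h := by
    rw [mul_sub, sub_mul, ← map_mul, ← map_mul]; simp
  have e' : ρ h * (ρ s - 1) ^ j = (ρ (h * s * h⁻¹) - 1) ^ j * ρ h := SemiconjBy.pow_right e j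
  rw [← End.mul_apply, e', End.mul_apply]
  simpa using Deg_pow (C.P_deg hh) j 0 _ W_zero

/-- the weights of an element normalising the flag -/
theorem wt (hh : (s ^ n)⁻¹ * (h * s * h⁻¹) ∈ Q) (h0 : Cg ρ s v₀ 0 c (ρ h v₀)) (j : ℕ) :
    Cg ρ s v₀ j ((n : ZMod p) ^ j * c) (ρ h (bs ρ s v₀ j)) := by
  induction j with
  | zero => simpa [bs_zero] using h0
  | succ j ih =>
    have e : ρ h * (ρ s - 1) = (ρ (h * s * h⁻¹) - 1) * ρ h := by
      rw [mul_sub, sub_mul, ← map_mul, ← map_mul]; simp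
    rw [← N_bs 1 j, pow_one, ← End.mul_apply, e, End.mul_apply, pow_succ', mul_assoc]
    exact ih.app (C.lead hh)

theorem nopn {R : Subgroup G} (hR : IsPGroup p R) (hn : ⊤ ≤ 𝐍(R)) : R = ⊥ := by
  rw [eq_bot_iff]
  intro x hx
  by_contra h1
  have h2 := (C.syl.le_of_normalized hR le_top hn).trans C.PH
  obtain ⟨k, hk⟩ := hR ⟨x, hx⟩
  exact C.ne (eq_top_iff.2 fun g _ => C.emb x (h2 hx) h1 ⟨k, congrArg Subtype.val hk⟩ g
    (h2 ((mem_normalizer_iff.1 (hn (mem_top g)) x).1 hx)))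

/-- the leading term of a central element -/
theorem exists_lead {z : G} (hz : z ∈ Q) (h1 : z ≠ 1) (hc : s * z = z * s) : ∃ k a, 2 ≤ k ∧ a ≠ 0 ∧
    bs ρ s v₀ k ≠ 0 ∧ Commute (ρ z - 1) (ρ s - 1) ∧ Cg ρ s v₀ k a ((ρ z - 1) v₀) := by
  have h2 : Commute (ρ z - 1) (ρ s - 1) :=
    (((Commute.map hc.symm ρ).sub_left (Commute.one_left _)).sub_right (Commute.one_right _))
  have h3 : (ρ z - 1) v₀ ≠ 0 := fun e => h1 (C.inj (by
    have : bs ρ s v₀ (p - 1) = 0 := C.W_big le_rfl (bs_mem _)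
    rw [map_one, ← sub_eq_zero, C.eq_zero (C.deg_comm h2 (e ▸ zero_mem _)) this]))
  obtain ⟨k, a, h4, h5, h6⟩ := C.level h3
  refine ⟨k, a, ?_, h4, h5, h2, h6⟩
  by_contra hk
  exact h4 (C.uniq h5 h6 (cg_zero.2 (W_anti (by omega) (C.sh z hz 0 _ W_zero))))

end Cfg

end Cfsg.Agent.M9
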