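import Cfsg.Agent.H1.QuadPair

/-! Finite subgroups of `SL₂(K)` generated by two transvections (slice QUAD of `S5269`). -/

set_option autoImplicit false

namespace Cfsg.Agent.M9.Qd

open Matrix Cfsg.Agent.H1
open scoped MatrixGroups commutatorElement

variable {K : Type*} [Field K]

/-- upper transvection -/
def up (s : K) : SL(2, K) := ⟨!![1, s; 0, 1], by simp [det_fin_two]⟩

/-- lower transvection -/
def lo (s : K) : SL(2, K) := ⟨!![1, 0; s, 1], by simp [det_fin_two]⟩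

theorem mul_ap (g h : SL(2, K)) (i j : Fin 2) : (g * h) i j = g i 0 * h 0 j + g i 1 * h 1 j := by
  show ((g : Matrix (Fin 2) (Fin 2) K) * (h : Matrix (Fin 2) (Fin 2) K)) i j = _
  rw [Matrix.mul_apply, Fin.sum_univ_two]

theorem sl_ext {g h : SL(2, K)} (h1 : g 0 0 = h 0 0) (h2 : g 0 1 = h 0 1) (h3 : g 1 0 = h 1 0)
    (h4 : g 1 1 = h 1 1) : g = h := by
  ext i j
  fin_cases i <;> fin_cases j <;> assumption

theorem sl_det (g : SL(2, K)) : g 0 0 * g 1 1 - g 0 1 * g 1 0 = 1 := by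
  have := g.det_coe
  rwa [det_fin_two] at this

@[simp] theorem up00 (s : K) : up s 0 0 = 1 := rfl
@[simp] theorem up01 (s : K) : up s 0 1 = s := rfl
@[simp] theorem up10 (s : K) : up s 1 0 = 0 := rfl
@[simp] theorem up11 (s : K) : up s 1 1 = 1 := rfl
@[simp] theorem lo00 (s : K) : lo s 0 0 = 1 := rfl
@[simp] theorem lo01 (s : K) : lo s 0 1 = 0 := rfl
@[simp] theorem lo10 (s : K) : lo s 1 0 = s := rfl
@[simp] theorem lo11 (s : K) : lo s 1 1 = 1 := rfl
@[simp] theorem one00 : (1 : SL(2, K)) 0 0 = 1 := rfl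
@[simp] theorem one01 : (1 : SL(2, K)) 0 1 = 0 := rfl
@[simp] theorem one10 : (1 : SL(2, K)) 1 0 = 0 := rfl
@[simp] theorem one11 : (1 : SL(2, K)) 1 1 = 1 := rfl

theorem up_add (s t : K) : up (s + t) = up s * up t := by
  apply sl_ext <;> simp [mul_ap, add_comm]

theorem lo_add (s t : K) : lo (s + t) = lo s * lo t := by
  apply sl_ext <;> simp [mul_ap]

theorem up_zero : up (0 : K) = 1 := by apply sl_ext <;> simp
theorem lo_zero : lo (0 : K) = 1 := by apply sl_ext <;> simp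

theorem up_pow (s : K) (n : ℕ) : up s ^ n = up (n * s) := by
  induction n with
  | zero => simp [up_zero]
  | succ n ih => rw [pow_succ, ih, ← up_add]; congr 1; push_cast; ring

theorem lo_pow (s : K) (n : ℕ) : lo s ^ n = lo (n * s) := by
  induction n with
  | zero => simp [lo_zero]
  | succ n ih => rw [pow_succ, ih, ← lo_add]; congr 1; push_cast; ring

theorem up_ne {s : K} (hs : s ≠ 0) : up s ≠ 1 := fun h => hs (by
  have := congrArg (fun g : SL(2, K) => g 0 1) h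
  simpa using this)

theorem lo_inv : (lo (1 : K))⁻¹ = lo (-1) :=
  inv_eq_of_mul_eq_one_right (by rw [← lo_add, add_neg_cancel, lo_zero])

theorem tri_pow {g : SL(2, K)} (h : g 1 0 = 0) (n : ℕ) :
    (g ^ n) 1 0 = 0 ∧ (g ^ n) 0 0 = g 0 0 ^ n := by
  induction n with
  | zero => simp
  | succ n ih => rw [pow_succ, mul_ap, mul_ap, ih.1, ih.2, h]; simp [pow_succ]

theorem comm_up {g : SL(2, K)} {s : K} (hs : s ≠ 0) (h : g * up s = up s * g) :
    g 1 0 = 0 ∧ g 0 0 = g 1 1 := by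
  have h1 := congrArg (fun g : SL(2, K) => g 0 0) h
  have h2 := congrArg (fun g : SL(2, K) => g 0 1) h
  simp only [mul_ap, up00, up01, up10, up11] at h1 h2
  refine ⟨(mul_eq_zero.1 (show s * g 1 0 = 0 by linear_combination -h1)).resolve_left hs, ?_⟩
  exact mul_left_cancel₀ hs (by linear_combination h2)

theorem eq_up {p : ℕ} [Fact p.Prime] [CharP K p] {g : SL(2, K)} {s : K} (hs : s ≠ 0)
    (h : g * up s = up s * g) {k : ℕ} (hk : g ^ p ^ k = 1) : g = up (g 0 1) := by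
  obtain ⟨h1, h2⟩ := comm_up hs h
  have h3 := (tri_pow h1 (p ^ k)).2
  rw [hk, one00] at h3
  have h4 : g 0 0 = 1 := by
    have : (g 0 0 - 1) ^ p ^ k = 0 := by rw [sub_pow_char_pow, ← h3, one_pow, sub_self]
    exact sub_eq_zero.1 (pow_eq_zero_iff (pow_ne_zero k (Fact.out : p.Prime).ne_zero) |>.1 this)
  exact sl_ext h4 rfl h1 (h2 ▸ h4)

/-- a `p`-group containing an upper transvection consists of upper transvections -/
theorem all_up {p : ℕ} [Fact p.Prime] [CharP K p] {Γ : Type*} [Group Γ] [Finite Γ]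
    (μ : Γ →* SL(2, K)) {A : Subgroup Γ} (hA : IsPGroup p A) {x : Γ} (hx : x ∈ A) {l : K}
    (hl : l ≠ 0) (hμ : μ x = up l) {a : Γ} (ha : a ∈ A) : ∃ s, μ a = up s := by
  have hS : IsPGroup p (A.map μ) := hA.map μ
  haveI : Finite (A.map μ) := Finite.of_surjective _ (μ.subgroupMap_surjective A)
  haveI : Nontrivial (A.map μ) := ⟨⟨⟨μ x, x, hx, rfl⟩, 1, fun h => up_ne hl (by
    rw [← hμ]; exact congrArg Subtype.val h)⟩⟩
  haveI := hS.center_nontrivial
  obtain ⟨z, hz⟩ := exists_ne (1 : Subgroup.center (A.map μ))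
  have hc : ∀ b ∈ A, μ b * z.1.1 = z.1.1 * μ b := fun b hb =>
    congrArg Subtype.val (Subgroup.mem_center_iff.1 z.2 ⟨μ b, b, hb, rfl⟩)
  obtain ⟨k, hk⟩ := hS z.1
  have h1 := eq_up hl (by rw [← hμ]; exact (hc x hx).symm) (congrArg Subtype.val hk)
  have h2 : z.1.1 0 1 ≠ 0 := fun h => hz (Subtype.ext (Subtype.ext (by
    rw [h1, h, up_zero]; rfl)))
  obtain ⟨j, hj⟩ := hS ⟨μ a, a, ha, rfl⟩
  exact ⟨_, eq_up h2 (by rw [← h1]; exact hc a ha) (congrArg Subtype.val hj)⟩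

theorem sq_of_comm {g : SL(2, K)} {l : K} (hl : l ≠ 0) (h : g * up l = up l * g)
    (h' : g * lo 1 = lo 1 * g) : g * g = 1 := by
  obtain ⟨h1, h2⟩ := comm_up hl h
  have h3 := congrArg (fun g : SL(2, K) => g 0 0) h'
  simp only [mul_ap, lo00, lo01, lo10] at h3
  have h4 : g 0 1 = 0 := by linear_combination h3
  have h5 := sl_det g
  apply sl_ext <;> simp only [mul_ap, h1, h4, one00, one01, one10, one11] <;> grind

theorem comm_of_sq (h2 : (2 : K) ≠ 0) {g : SL(2, K)} (h : g * g = 1) (k : SL(2, K)) :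
    g * k = k * g := by
  have e1 := congrArg (fun g : SL(2, K) => g 0 0) h
  have e2 := congrArg (fun g : SL(2, K) => g 0 1) h
  have e3 := congrArg (fun g : SL(2, K) => g 1 0) h
  have e4 := congrArg (fun g : SL(2, K) => g 1 1) h
  simp only [mul_ap, one00, one01, one10, one11] at e1 e2 e3 e4
  have h5 := sl_det g
  have ht : g 0 0 + g 1 1 ≠ 0 := fun h0 => h2 (by
    linear_combination (g 0 0) * h0 - e1 - h5)
  have f1 : g 0 1 = 0 := mul_left_cancel₀ ht (by linear_combination e2)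
  have f2 : g 1 0 = 0 := mul_left_cancel₀ ht (by linear_combination e3)
  have f3 : g 0 0 = g 1 1 := mul_left_cancel₀ ht (by linear_combination e1 - e4)
  apply sl_ext <;> simp only [mul_ap, f1, f2, f3] <;> ring

theorem tri_of_conj {g : SL(2, K)} {s t : K} (hs : s ≠ 0) (h : g * up s * g⁻¹ = up t) :
    g 1 0 = 0 := by
  rw [mul_inv_eq_iff_eq_mul] at h
  have h1 := congrArg (fun g : SL(2, K) => g 1 1) h
  simp only [mul_ap, up00, up01, up10, up11] at h1
  exact (mul_eq_zero.1 (show s * g 1 0 = 0 by linear_combination h1)).resolve_left hs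

/-- upper triangular matrices -/
def bor (K : Type*) [Field K] : Subgroup SL(2, K) where
  carrier := {g | g 1 0 = 0}
  one_mem' := rfl
  mul_mem' := fun {g h} hg hh => by
    simp only [Set.mem_setOf_eq] at hg hh ⊢
    rw [mul_ap, hg, hh]; simp
  inv_mem' := fun {g} hg => by
    simp only [Set.mem_setOf_eq] at hg ⊢
    have h1 := congrArg (fun g : SL(2, K) => g 1 0) (mul_inv_cancel g)
    have h5 := sl_det g
    simp only [mul_ap, one10, hg] at h1 h5
    linear_combination g 0 0 * h1 - (g⁻¹) 1 0 * h5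

/-- upper transvections -/
def uni (K : Type*) [Field K] : Subgroup SL(2, K) where
  carrier := {g | ∃ s, g = up s}
  one_mem' := ⟨0, up_zero.symm⟩
  mul_mem' := by
    rintro _ _ ⟨s, rfl⟩ ⟨t, rfl⟩
    exact ⟨_, (up_add s t).symm⟩
  inv_mem' := by
    rintro _ ⟨s, rfl⟩
    exact ⟨-s, inv_eq_of_mul_eq_one_right (by rw [← up_add, add_neg_cancel, up_zero])⟩

theorem bor_comm : ⁅bor K, bor K⁆ ≤ uni K := by
  rw [Subgroup.commutator_le]
  intro g hg h hh
  have h1 : ⁅g, h⁆ ∈ bor K := by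
    rw [commutatorElement_def]
    exact mul_mem (mul_mem (mul_mem hg hh) (inv_mem hg)) (inv_mem hh)
  have h2 : ⁅g, h⁆ * (h * g) = g * h := by simp [commutatorElement_def, mul_assoc]
  have e1 := congrArg (fun g : SL(2, K) => g 0 0) h2
  have hg' : g 1 0 = 0 := hg
  have hh' : h 1 0 = 0 := hh
  have h1' : ⁅g, h⁆ 1 0 = 0 := h1
  have d1 := sl_det g
  have d2 := sl_det h
  have d3 := sl_det ⁅g, h⁆
  simp only [mul_ap, hg', hh', h1'] at e1 d1 d2 d3
  generalize ⁅g, h⁆ = c at *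
  have f1 : c 0 0 = 1 := by grind
  exact ⟨_, sl_ext f1 rfl h1' (by rw [up11]; grind)⟩

theorem bor_comm2 : ⁅⁅bor K, bor K⁆, ⁅bor K, bor K⁆⁆ = ⊥ := by
  rw [eq_bot_iff, Subgroup.commutator_le]
  intro g hg h hh
  obtain ⟨s, rfl⟩ := bor_comm hg
  obtain ⟨t, rfl⟩ := bor_comm hh
  rw [Subgroup.mem_bot, commutatorElement_eq_one_iff_mul_comm, ← up_add, ← up_add, add_comm]

theorem mem_comm_std {p : ℕ} [hp : Fact p.Prime] [CharP K p] (hp5 : 5 ≤ p) (R : Subgroup SL(2, K))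
    [Finite R] (hC : up 1 ∈ R) (hD : lo 1 ∈ R) {u : SL(2, K)} (hu : u ∈ R) (hup : u ^ p = 1) :
    u ∈ ⁅R, R⁆ := by
  have pg : ∀ g : R, g.1 ^ p = 1 → IsPGroup p (Subgroup.zpowers g) := fun g hg => by
    rintro ⟨_, n, rfl⟩
    refine ⟨1, Subtype.ext (Subtype.ext ?_)⟩
    show (g.1 ^ n) ^ p ^ 1 = 1
    rw [pow_one, ← zpow_natCast, ← _root_.zpow_mul, mul_comm, _root_.zpow_mul, zpow_natCast, hg,
      _root_.one_zpow]
  obtain ⟨S1, h1⟩ := (pg ⟨_, hC⟩ (by
    rw [up_pow, CharP.cast_eq_zero, zero_mul, up_zero])).exists_le_sylow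
  obtain ⟨S2, h2⟩ := (pg ⟨_, hu⟩ hup).exists_le_sylow
  obtain ⟨g, hg⟩ := MulAction.exists_smul_eq R S2 S1
  have h3 : g * ⟨u, hu⟩ * g⁻¹ ∈ (S1 : Subgroup R) := by
    rw [← hg]
    exact Subgroup.smul_mem_pointwise_smul _ (MulAut.conj g) _ (h2 (Subgroup.mem_zpowers _))
  obtain ⟨s, hs⟩ := all_up R.subtype S1.isPGroup' (h1 (Subgroup.mem_zpowers _)) one_ne_zero rfl h3
  have hs' : g.1 * u * g.1⁻¹ = up s := hs
  obtain ⟨m, hm⟩ := hp.out.odd_of_ne_two (by omega)
  have hm' : 2 * (m : K) + 1 = 0 := by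
    have := CharP.cast_eq_zero K p
    rw [hm] at this
    exact_mod_cast this
  let h : SL(2, K) := up 1 ^ 2 * lo 1 ^ m * up 1 ^ 2 * (up 1 * (lo 1)⁻¹ * up 1)
  have hh : h ∈ R := mul_mem (mul_mem (mul_mem (pow_mem hC _) (pow_mem hD _)) (pow_mem hC _))
    (mul_mem (mul_mem hC (inv_mem hD)) hC)
  have h4 : h * up s = up s ^ 4 * h := by
    simp only [h, up_pow, lo_pow, lo_inv]
    apply sl_ext <;> simp only [mul_ap, up00, up01, up10, up11, lo00, lo01, lo10, lo11] <;>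
      push_cast <;> grind
  have h5 : ⁅g.1⁻¹ * h * g.1, u⁆ = u ^ 3 := by
    have : u = g.1⁻¹ * up s * g.1 := by rw [← hs']; group
    rw [this]
    calc _ = g.1⁻¹ * (h * up s) * h⁻¹ * (up s)⁻¹ * g.1 := by rw [commutatorElement_def]; group
      _ = _ := by rw [h4]; simp [pow_succ, mul_assoc]
  have h6 : u ^ 3 ∈ ⁅R, R⁆ := h5 ▸ Subgroup.commutator_mem_commutator
    (mul_mem (mul_mem (inv_mem g.2) hh) g.2) hu
  have h7 : Nat.Coprime 3 p := (Nat.coprime_primes Nat.prime_three hp.out).2 (by omega)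
  obtain ⟨k, hk⟩ := exists_pow_eq_self_of_coprime (x := u)
    (h7.coprime_dvd_right (orderOf_dvd_of_pow_eq_one hup))
  exact hk ▸ pow_mem h6 k

theorem std_four (h2 : (2 : K) ≠ 0) :
    (up 1 * (lo 1)⁻¹ * up 1 : SL(2, K)) ^ 2 ≠ 1 ∧ (up 1 * (lo 1)⁻¹ * up 1 : SL(2, K)) ^ 4 = 1 := by
  rw [lo_inv]
  constructor
  · intro h
    have := congrArg (fun g : SL(2, K) => g 0 0) h
    simp only [pow_two, mul_ap, up00, up01, up10, up11, lo00, lo01, lo10, lo11, one00] at this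
    exact h2 (by linear_combination -this)
  · rw [show 4 = 1 + 1 + 1 + 1 from rfl, pow_succ, pow_succ, pow_succ, pow_one]
    apply sl_ext <;> simp only [mul_ap, up00, up01, up10, up11, lo00, lo01, lo10, lo11, one00,
      one01, one10, one11] <;> ring

theorem two_ne {p : ℕ} [hp : Fact p.Prime] [CharP K p] (hp5 : 5 ≤ p) : (2 : K) ≠ 0 := fun h => by
  have := (CharP.cast_eq_zero_iff K p 2).1 (by exact_mod_cast h)
  have := Nat.le_of_dvd two_pos this
  omega

/-- Dickson: elements of order `p` are in the derived group, and there is an element of order 4 -/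
theorem dickson_perf [IsAlgClosed K] {p : ℕ} [hp : Fact p.Prime] [CharP K p] (hp5 : 5 ≤ p)
    (R : Subgroup SL(2, K)) [Finite R] {l : K} (hl : l ≠ 0) (hx : up l ∈ R) (hy : lo 1 ∈ R) :
    (∀ u ∈ R, u ^ p = 1 → u ∈ ⁅R, R⁆) ∧ ∃ e ∈ R, e ^ 2 ≠ 1 ∧ e ^ 4 = 1 := by
  classical
  obtain ⟨a, ha, b, hb, v, w, h0, h1, h2, h3, h4⟩ :=
    dickson_pair (p := p) (by omega) R hx hy hl rfl rfl
  have ev : ∀ {g : SL(2, K)} {z z' : Fin 2 → K}, slMat K g *ᵥ z = z' →
      g 0 0 * z 0 + g 0 1 * z 1 = z' 0 ∧ g 1 0 * z 0 + g 1 1 * z 1 = z' 1 := fun {g z z'} h => by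
    subst h
    simp [mulVec, dotProduct, Fin.sum_univ_two, slMat_apply]
  obtain ⟨a1, a2⟩ := ev h1
  obtain ⟨a3, a4⟩ := ev h2
  obtain ⟨b1, b2⟩ := ev h3
  obtain ⟨b3, b4⟩ := ev h4
  simp only [Pi.add_apply] at a3 a4 b3 b4
  have hd : v 0 * w 1 - w 0 * v 1 ≠ 0 := fun hd => h0 (by
    have e0 : v 0 * v 0 = 0 := by
      linear_combination -(v 0 * a3) + w 0 * a1 + a 0 1 * hd
    have e1 : v 1 * v 1 = 0 := by
      linear_combination -(v 1 * a4) + w 1 * a2 - a 1 0 * hd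
    ext i
    fin_cases i
    exacts [mul_self_eq_zero.1 e0, mul_self_eq_zero.1 e1])
  obtain ⟨r, hr⟩ := IsAlgClosed.exists_eq_mul_self (v 0 * w 1 - w 0 * v 1)⁻¹
  have hr' : r * r * (v 0 * w 1 - w 0 * v 1) = 1 := by rw [← hr, inv_mul_cancel₀ hd]
  let P : SL(2, K) := ⟨!![r * v 0, r * w 0; r * v 1, r * w 1], by
    rw [det_fin_two_of]; linear_combination hr'⟩
  have P00 : P 0 0 = r * v 0 := rfl
  have P01 : P 0 1 = r * w 0 := rfl
  have P10 : P 1 0 = r * v 1 := rfl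
  have P11 : P 1 1 = r * w 1 := rfl
  have ea : a * P = P * up 1 := by
    apply sl_ext <;> simp only [mul_ap, P00, P01, P10, P11, up00, up01, up10, up11]
    · linear_combination r * a1
    · linear_combination r * a3
    · linear_combination r * a2
    · linear_combination r * a4
  have eb : b * P = P * lo 1 := by
    apply sl_ext <;> simp only [mul_ap, P00, P01, P10, P11, lo00, lo01, lo10, lo11]
    · linear_combination r * b3
    · linear_combination r * b1
    · linear_combination r * b4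
    · linear_combination r * b2
  let κ : SL(2, K) →* SL(2, K) := (MulAut.conj P⁻¹).toMonoidHom
  have hκ : Function.Injective κ := (MulAut.conj P⁻¹).injective
  have κa : κ a = up 1 := by
    show P⁻¹ * a * P⁻¹⁻¹ = _
    rw [inv_inv, mul_assoc, ea, inv_mul_cancel_left]
  have κb : κ b = lo 1 := by
    show P⁻¹ * b * P⁻¹⁻¹ = _
    rw [inv_inv, mul_assoc, eb, inv_mul_cancel_left]
  haveI : Finite (R.map κ) := Finite.of_surjective _ (κ.subgroupMap_surjective R)
  refine ⟨fun u hu hup => ?_, a * b⁻¹ * a, mul_mem (mul_mem ha (inv_mem hb)) ha, ?_, ?_⟩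
  · have := mem_comm_std hp5 (R.map κ) ⟨a, ha, κa⟩ ⟨b, hb, κb⟩ ⟨u, hu, rfl⟩
      (by rw [← map_pow, hup, map_one])
    rw [← Subgroup.map_commutator] at this
    obtain ⟨n, hn, e⟩ := this
    exact hκ e ▸ hn
  · intro h
    refine (std_four (two_ne hp5 : (2 : K) ≠ 0)).1 ?_
    rw [← κa, ← κb, ← map_inv, ← map_mul, ← map_mul, ← map_pow, h, map_one]
  · apply hκ
    rw [map_pow, map_mul, map_mul, map_inv, κa, κb, map_one]
    exact (std_four (two_ne hp5 : (2 : K) ≠ 0)).2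

end Cfsg.Agent.M9.Qd
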