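import Cfsg.Agent.M9.Q1
import Cfsg.Agent.M9.I

/-! Planes of a pair of quadratic elements (slice QUAD of `S5269`). -/

set_option autoImplicit false

namespace Cfsg.Agent.M9.Qd

open Matrix Cfsg.Agent.H1 Subgroup
open scoped MatrixGroups commutatorElement

variable {K : Type*} [Field K] {Γ : Type*} [Group Γ]

/-- a two dimensional representation with the generators acting as opposite transvections -/
def Pl (μ : Γ →* SL(2, K)) (x y : Γ) : Prop := ∃ l : K, l ≠ 0 ∧ μ x = up l ∧ μ y = lo 1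

theorem exists_pl [IsAlgClosed K] {W : Type*} [AddCommGroup W] [Module K W]
    [FiniteDimensional K W] (ρ : Γ →* Module.End K W) {x y : Γ} (hxy : closure {x, y} = ⊤)
    {a b : Module.End K W} (hx : ρ x = 1 + a) (hy : ρ y = 1 + b) (ha : a * a = 0)
    (hb : b * b = 0) (hn : ¬ IsNilpotent (a * b + b * a)) :
    ∃ μ : Γ →* SL(2, K), Pl μ x y ∧ ∃ Φ : (Fin 2 → K) →ₗ[K] W, Function.Injective Φ ∧
      ∀ g z, ρ g (Φ z) = Φ (slMat K (μ g) *ᵥ z) := by
  classical
  obtain ⟨l, u, hl, hu, htu⟩ := exists_eigenvector_of_not_nilpotent hn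
  have haa : ∀ v, a (a v) = 0 := fun v => by rw [← Module.End.mul_apply, ha]; rfl
  have hbb : ∀ v, b (b v) = 0 := fun v => by rw [← Module.End.mul_apply, hb]; rfl
  simp only [LinearMap.add_apply, Module.End.mul_apply] at htu
  obtain ⟨v, hv0, hv1, hv2⟩ : ∃ v, v ≠ 0 ∧ a v = 0 ∧ a (b v) = l • v := by
    by_cases h : a u = 0
    · exact ⟨u, hu, h, by simpa [h] using htu⟩
    · refine ⟨a u, h, haa u, ?_⟩
      have := congrArg a htu
      simpa [haa] using this
  let Φ : (Fin 2 → K) →ₗ[K] W := (LinearMap.proj 0 : (Fin 2 → K) →ₗ[K] K).smulRight v +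
    (LinearMap.proj 1 : (Fin 2 → K) →ₗ[K] K).smulRight (b v)
  have hΦ : ∀ z, Φ z = z 0 • v + z 1 • b v := fun _ => rfl
  have hinj : Function.Injective Φ := by
    rw [injective_iff_map_eq_zero]
    intro z hz
    have h1 := congrArg a hz
    rw [hΦ, map_add, map_smul, map_smul, hv1, hv2, smul_zero, zero_add, map_zero, smul_smul,
      smul_eq_zero] at h1
    have h2 : z 1 = 0 := (mul_eq_zero.1 (h1.resolve_right hv0)).resolve_right hl
    rw [hΦ, h2, zero_smul, add_zero, smul_eq_zero] at hz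
    ext i
    fin_cases i
    exacts [hz.resolve_right hv0, h2]
  let G : Subgroup (Γ × SL(2, K)) :=
    { carrier := {g | ∀ z, ρ g.1 (Φ z) = Φ (slMat K g.2 *ᵥ z)}
      one_mem' := fun z => by simp
      mul_mem' := fun {g g'} h h' z => by
        rw [Prod.fst_mul, Prod.snd_mul, map_mul, map_mul, Module.End.mul_apply, h', h,
          mulVec_mulVec]
      inv_mem' := fun {g} h z => by
        have := h (slMat K g.2⁻¹ *ᵥ z)
        rw [mulVec_mulVec, ← map_mul, mul_inv_cancel, map_one, one_mulVec] at this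
        rw [Prod.fst_inv, Prod.snd_inv, ← this, ← Module.End.mul_apply, ← map_mul, inv_mul_cancel,
          map_one, Module.End.one_apply] }
  have un : ∀ {g s s'}, (g, s) ∈ G → (g, s') ∈ G → s = s' := fun h h' =>
    slMat_injective (Matrix.ext_of_mulVec_single fun i => hinj ((h _).symm.trans (h' _)))
  have hX : slMat K (up l) = !![1, l; 0, 1] := rfl
  have hY : slMat K (lo 1) = !![1, 0; 1, 1] := rfl
  have hxG : (x, up l) ∈ G := fun z => by
    rw [hX, mulVec_fin_two, hΦ, hΦ, hx]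
    simp [hv1, hv2, smul_smul]
    module
  have hyG : (y, lo 1) ∈ G := fun z => by
    rw [hY, mulVec_fin_two, hΦ, hΦ, hy]
    simp [hbb]
    module
  have hall : ∀ g : Γ, ∃ s, (g, s) ∈ G := fun g => by
    have : closure {x, y} ≤ G.map (MonoidHom.fst _ _) := by
      rw [closure_le]
      rintro _ (rfl | rfl)
      exacts [⟨_, hxG, rfl⟩, ⟨_, hyG, rfl⟩]
    obtain ⟨⟨_, s⟩, h, rfl⟩ := this (hxy ▸ mem_top g)
    exact ⟨s, h⟩
  choose f hf using hall
  let μ : Γ →* SL(2, K) := MonoidHom.mk' f fun g h => un (hf _) (mul_mem (hf g) (hf h))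
  exact ⟨μ, ⟨l, hl, un (hf x) hxG, un (hf y) hyG⟩, Φ, hinj, hf⟩

theorem nil_of_pl [IsAlgClosed K] {x y : Γ} (hxy : closure {x, y} = ⊤) (g : Γ) (n : ℕ) :
    ∀ {W : Type*} [AddCommGroup W] [Module K W] [FiniteDimensional K W]
      (ρ : Γ →* Module.End K W), Module.finrank K W = n → (ρ x - 1) * (ρ x - 1) = 0 →
      (ρ y - 1) * (ρ y - 1) = 0 →
      (∀ μ : Γ →* SL(2, K), Pl μ x y → (∀ k, ρ k = 1 → μ k = 1) → μ g = 1) →
      IsNilpotent (ρ g - 1) := by
  induction n using Nat.strong_induction_on with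
  | _ n ih =>
  intro W _ _ _ ρ hn hx hy h
  by_cases hc : IsNilpotent ((ρ x - 1) * (ρ y - 1) + (ρ y - 1) * (ρ x - 1))
  · obtain ⟨m, hm⟩ := hc
    exact ⟨_, unipotent_of_nilpotent ρ (add_sub_cancel _ _).symm (add_sub_cancel _ _).symm hx hy hm
      (hxy ▸ mem_top g)⟩
  obtain ⟨μ, hμ, Φ, hΦ, he⟩ := exists_pl ρ hxy (add_sub_cancel _ _).symm (add_sub_cancel _ _).symm
    hx hy hc
  let U := LinearMap.range Φ
  have hU : ∀ k, U ≤ U.comap (ρ k) := by
    rintro k _ ⟨z, rfl⟩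
    exact ⟨_, (he k z).symm⟩
  let ρ' : Γ →* Module.End K (W ⧸ U) :=
    { toFun := fun k => U.mapQ U (ρ k) (hU k)
      map_one' := LinearMap.ext fun w => by
        obtain ⟨w, rfl⟩ := U.mkQ_surjective w
        simp
      map_mul' := fun k k' => LinearMap.ext fun w => by
        obtain ⟨w, rfl⟩ := U.mkQ_surjective w
        simp }
  have hρ' : ∀ k w, ρ' k (U.mkQ w) = U.mkQ (ρ k w) := fun _ _ => rfl
  have hs : ∀ k w, (ρ' k - 1) (U.mkQ w) = U.mkQ ((ρ k - 1) w) := fun k w => by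
    simp only [LinearMap.sub_apply, Module.End.one_apply, hρ', map_sub]
  have hq : ∀ k, (ρ k - 1) * (ρ k - 1) = 0 → (ρ' k - 1) * (ρ' k - 1) = 0 := fun k hk =>
    LinearMap.ext fun w => by
      obtain ⟨w, rfl⟩ := U.mkQ_surjective w
      rw [Module.End.mul_apply, hs, hs, ← Module.End.mul_apply, hk]
      simp
  have hlt : Module.finrank K (W ⧸ U) < n := by
    have h1 := Submodule.finrank_quotient_add_finrank U
    have h2 : Module.finrank K U = 2 := by
      rw [LinearMap.finrank_range_of_inj hΦ]; simp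
    omega
  obtain ⟨m, hm⟩ := ih _ hlt ρ' rfl (hq x hx) (hq y hy) fun ν hν hk => h ν hν fun k h1 =>
    hk k (LinearMap.ext fun w => by
      obtain ⟨w, rfl⟩ := U.mkQ_surjective w
      rw [hρ', h1]; rfl)
  have hg : μ g = 1 := h μ hμ fun k hk =>
    slMat_injective (Matrix.ext_of_mulVec_single fun i => hΦ (by
      rw [← he, hk, map_one, one_mulVec]; rfl))
  refine ⟨m + 1, LinearMap.ext fun w => ?_⟩
  have h3 : ∀ (j : ℕ) (w : W), ((ρ' g - 1) ^ j) (U.mkQ w) = U.mkQ (((ρ g - 1) ^ j) w) := fun j => by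
    induction j with
    | zero => intro w; rfl
    | succ j ij => intro w; rw [pow_succ, pow_succ, Module.End.mul_apply, hs, ij]; rfl
  have h4 := h3 m w
  rw [hm, LinearMap.zero_apply, eq_comm, Submodule.mkQ_apply, Submodule.Quotient.mk_eq_zero] at h4
  obtain ⟨z, hz⟩ := h4
  rw [pow_succ', Module.End.mul_apply, ← hz, LinearMap.sub_apply, he, hg, map_one, one_mulVec]
  simp

theorem pow_of_nil {p : ℕ} [hp : Fact p.Prime] [CharP K p] {W : Type*} [AddCommGroup W]
    [Module K W] {r : Module.End K W} (h : IsNilpotent (r - 1)) : ∃ k : ℕ, r ^ p ^ k = 1 := by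
  obtain ⟨m, hm⟩ := h
  rcases subsingleton_or_nontrivial W with h | h
  · exact ⟨0, Subsingleton.elim _ _⟩
  haveI : CharP (Module.End K W) p := charP_of_injective_algebraMap
    (algebraMap K (Module.End K W)).injective p
  have h2 := pow_eq_zero_of_le (Nat.lt_pow_self hp.out.one_lt).le hm
  rw [sub_pow_char_pow_of_commute _ _ (Commute.one_right _), one_pow, sub_eq_zero] at h2
  exact ⟨m, h2⟩

variable [IsAlgClosed K] {p : ℕ} [hp : Fact p.Prime] [CharP K p] [Finite Γ]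

theorem Pl.perf (hp5 : 5 ≤ p) {μ : Γ →* SL(2, K)} {x y : Γ} (hxy : closure {x, y} = ⊤)
    (h : Pl μ x y) : ⁅μ.range, μ.range⁆ = μ.range ∧ μ.range ≠ ⊥ ∧
      ∃ e, μ e ^ 2 ≠ 1 ∧ μ e ^ 4 = 1 := by
  obtain ⟨l, hl, hx, hy⟩ := h
  haveI : Finite μ.range := Finite.of_surjective _ μ.rangeRestrict_surjective
  obtain ⟨h1, _, ⟨e, rfl⟩, h2⟩ := dickson_perf hp5 μ.range hl ⟨x, hx⟩ ⟨y, hy⟩
  refine ⟨le_antisymm (commutator_le_self _) ?_, fun h => up_ne hl ?_, e, h2⟩
  · conv_lhs => rw [MonoidHom.range_eq_map, ← hxy, MonoidHom.map_closure]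
    rw [closure_le]
    rintro _ ⟨_, rfl | rfl, rfl⟩
    · exact h1 _ ⟨_, rfl⟩ (by rw [hx, up_pow, CharP.cast_eq_zero, zero_mul, up_zero])
    · exact h1 _ ⟨_, rfl⟩ (by rw [hy, lo_pow, CharP.cast_eq_zero, zero_mul, lo_zero])
  · rw [← hx]
    exact (eq_bot_iff_forall _).1 h _ ⟨x, rfl⟩

theorem Pl.comm (hp5 : 5 ≤ p) {μ : Γ →* SL(2, K)} {x y : Γ} (hxy : closure {x, y} = ⊤)
    (h : Pl μ x y) {N : Subgroup Γ} (hN : N.map μ = μ.range) : (⁅N, N⁆).map μ = μ.range := by
  rw [map_commutator, hN, (h.perf hp5 hxy).1]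

end Cfsg.Agent.M9.Qd
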