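import Cfsg.Agent.M9.S1

/-! The Sylow subgroup of order `p ^ 2`: fusion and weights. -/

set_option autoImplicit false
set_option linter.unusedSectionVars false
set_option linter.unusedSimpArgs false

namespace Cfsg.Agent.M9

open Subgroup Cfsg.Agent.H1 Cfsg.Agent.L Cfsg.Agent.FT Module

variable {p : ℕ} [hp : Fact p.Prime] {G V : Type*} [Group G] [AddCommGroup V] [Module (ZMod p) V]
  {ρ : G →* End (ZMod p) V} {P Q H X : Subgroup G} {s z g h u : G} {v₀ v w : V}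
  {A B : End (ZMod p) V} {i j d e n k : ℕ} {a c c' : ZMod p}

theorem Deg_lead (h : A - c • (ρ s - 1) ^ d ∈ Deg ρ s (d + 1)) : A ∈ Deg ρ s d := by
  have := Submodule.smul_mem _ c (Deg_pow (Deg_N (ρ := ρ) (s := s)) d)
  rw [one_mul] at this
  simpa using add_mem (Deg_mono d.le_succ h) this

theorem lead_mul (h : A - c • (ρ s - 1) ^ d ∈ Deg ρ s (d + 1))
    (h' : B - c' • (ρ s - 1) ^ e ∈ Deg ρ s (e + 1)) :
    A * B - (c * c') • (ρ s - 1) ^ (d + e) ∈ Deg ρ s (d + e + 1) := by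
  have h1 := Deg_mul h (Deg_lead h')
  have h2 := Submodule.smul_mem _ c (Deg_mul (Deg_pow (Deg_N (ρ := ρ) (s := s)) d) h')
  rw [one_mul] at h2
  rw [add_right_comm] at h1
  convert add_mem h1 h2 using 1
  simp only [mul_sub, sub_mul, smul_sub, smul_mul_assoc, mul_smul_comm, pow_add, smul_smul]
  abel

theorem lead_pow (h : A - c • (ρ s - 1) ^ d ∈ Deg ρ s (d + 1)) (n : ℕ) :
    A ^ n - c ^ n • (ρ s - 1) ^ (d * n) ∈ Deg ρ s (d * n + 1) := by
  induction n with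
  | zero => simp
  | succ n ih => rw [pow_succ, pow_succ, Nat.mul_succ]; exact lead_mul ih h

theorem pow_lead (hd : 1 ≤ d) (h : A - 1 - c • (ρ s - 1) ^ d ∈ Deg ρ s (d + 1)) (n : ℕ) :
    A ^ n - 1 - (n * c) • (ρ s - 1) ^ d ∈ Deg ρ s (d + 1) := by
  induction n with
  | zero => simp
  | succ n ih =>
    have h1 := Deg_mono (show d + 1 ≤ d + d by omega) (Deg_mul (Deg_lead ih) (Deg_lead h))
    convert add_mem h1 (add_mem ih h) using 1
    simp only [mul_sub, sub_mul, pow_succ, Nat.cast_succ, add_mul, add_smul, one_mul, mul_one]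
    abel

theorem inv_deg (h0 : ρ g⁻¹ ∈ Deg ρ s 0) (h : ρ g - 1 ∈ Deg ρ s d) : ρ g⁻¹ - 1 ∈ Deg ρ s d := by
  have := neg_mem (Deg_mul h0 h)
  rwa [mul_sub, ← map_mul, inv_mul_cancel, map_one, mul_one, neg_sub, zero_add] at this

theorem cs_sub_mem {Γ M : Type*} [Group Γ] [Finite Γ] [AddCommGroup M] [Module (ZMod p) M]
    {X₀ : Subgroup Γ} {F : Γ → M} {m : M} {U : Submodule (ZMod p) M} (h : ∀ x, F x - m ∈ U) :
    cs X₀ F - (X₀.index : ZMod p) • m ∈ U := by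
  let := Fintype.ofFinite (Γ ⧸ X₀)
  have := U.sum_mem (t := Finset.univ) fun (q : Γ ⧸ X₀) _ => h q.out
  rwa [Finset.sum_sub_distrib, Finset.sum_const, Finset.card_univ, ← Nat.card_eq_fintype_card,
    ← Nat.cast_smul_eq_nsmul (ZMod p)] at this

theorem comm_sub2 (h : g * z = z * g) : Commute (ρ g - 1) (ρ z - 1) := by
  have := congrArg ρ h
  rw [map_mul, map_mul] at this
  simp only [Commute, SemiconjBy, mul_sub, sub_mul, this, mul_one, one_mul]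
  abel

theorem pg_conj (h : u ^ p = 1) (x : G) : IsPGroup p (zpowers (x⁻¹ * u * x)) := by
  rintro ⟨_, i, rfl⟩
  refine ⟨1, Subtype.ext ?_⟩
  have : (x⁻¹ * u * x) ^ p = 1 := by simpa [h] using conj_pow (a := x⁻¹) (b := u) (i := p)
  simp only [pow_one, SubgroupClass.coe_pow, OneMemClass.coe_one]
  rw [← zpow_natCast, ← zpow_mul, mul_comm, zpow_mul, zpow_natCast, this, one_zpow]

namespace Cfg
variable (C : Cfg ρ P Q H s v₀)
include C

theorem pow_p (hu : u ∈ P) : u ^ p = 1 := C.inj <| by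
  rcases subsingleton_or_nontrivial V with hV | hV
  · exact Subsingleton.elim _ _
  have : CharP (End (ZMod p) V) p := charP_of_injective_algebraMap
    (algebraMap (ZMod p) (End (ZMod p) V)).injective p
  have h2 : (ρ u - 1) ^ p = 0 := LinearMap.ext fun v =>
    C.W_big (by omega) (Deg_pow (C.P_deg hu) p 0 v W_zero)
  rwa [sub_pow_char_of_commute _ (Commute.one_right _), one_pow, sub_eq_zero, ← map_pow,
    ← map_one ρ] at h2

/-- the stabiliser of the flag normalises `P` -/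
theorem flagN [Finite G] (hh : ρ h ∈ Deg ρ s 0) : h ∈ 𝐍(P) := by
  let M : Submonoid G :=
    { carrier := {g | ρ g ∈ Deg ρ s 0}
      one_mem' := by simpa using Deg_one
      mul_mem' := fun {a b} ha hb => by simpa using Deg_mul ha hb }
  let X : Subgroup G := { M with
    inv_mem' := fun {a} ha => Submonoid.powers_le.2 ha
      (mem_powers_iff_mem_zpowers.2 (inv_mem (mem_zpowers a))) }
  obtain ⟨R, hR, hRp, -, hXR⟩ := chain (X := X) (n := p - 1) C.inj (W ρ s) (fun _ => W_zero)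
    (fun v => C.W_big le_rfl) fun g hg => hg
  rw [← C.syl.maximal R hRp (fun u hu => (hR u).2 ⟨Deg_of_sub (C.P_deg hu), C.P_deg hu⟩) le_top]
  exact hXR hh

theorem img' (h : Commute A (ρ s - 1)) (hc : c ≠ 0) (hA : A - c • (ρ s - 1) ^ j ∈ Deg ρ s (j + 1)) :
    v ∈ W ρ s (i + j) ↔ ∃ u ∈ W ρ s i, A u = v :=
  C.img h (by simpa using hc) ((cg_bs i).app hA)

/-- images of invariant members of the flag -/
theorem img_inv (h : Commute A (ρ s - 1)) (hc : c ≠ 0)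
    (hA : A - c • (ρ s - 1) ^ j ∈ Deg ρ s (j + 1)) (hB : B * A = c' • (A * B))
    (hi : ∀ v ∈ W ρ s i, B v ∈ W ρ s i) : ∀ v ∈ W ρ s (i + j), B v ∈ W ρ s (i + j) := fun v hv => by
  obtain ⟨u, hu, rfl⟩ := (C.img' h hc hA).1 hv
  rw [← End.mul_apply, hB]
  exact Submodule.smul_mem _ _ ((C.img' h hc hA).2 ⟨_, hi u hu, rfl⟩)

end Cfg

/-- the configuration of `SMALL` -/
structure Sm (ρ : G →* End (ZMod p) V) (P H : Subgroup G) (s z : G) (v₀ : V) (k : ℕ) (a : ZMod p) :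
    Prop extends Cfg ρ P (zpowers z) H s v₀ where
  z1 : z ≠ 1
  comm : s * z = z * s
  k2 : 2 ≤ k
  a0 : a ≠ 0
  bk : bs ρ s v₀ k ≠ 0
  lz : ρ z - 1 - a • (ρ s - 1) ^ k ∈ Deg ρ s (k + 1)
  wts : ∀ h ∈ 𝐍(P), ∃ a b : ℕ, (s ^ a)⁻¹ * (h * s * h⁻¹) ∈ zpowers z ∧ h * z * h⁻¹ = z ^ b ∧
    ρ h v₀ - ((a * b : ℕ) : ZMod p) • v₀ ∈ W ρ s 1

namespace Sm
variable [Finite G] (C : Sm ρ P H s z v₀ k a)
include C

theorem zP : z ∈ P := C.QP (mem_zpowers z)

theorem bs_ne (h : j ≤ k) : bs ρ s v₀ j ≠ 0 := fun e => C.bk (C.W_eq_zero e (W_anti h (bs_mem k)))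

theorem abel (hu : u ∈ P) (hg : g ∈ P) : Commute u g := by
  have key : ∀ x, Commute s x → Commute z x → ∀ u ∈ P, Commute u x := fun x h1 h2 u hu => by
    obtain ⟨n, i, hi⟩ := C.dec u hu
    rw [← mul_inv_cancel_left (s ^ n) u, ← hi]
    exact (h1.pow_left n).mul_left (h2.zpow_left i)
  have h1 : Commute s z := C.comm
  exact key g (key s (.refl s) h1.symm g hg).symm (key z h1 (.refl z) g hg).symm u hu

theorem ord_z : orderOf z = p := orderOf_eq_prime (C.pow_p C.zP) C.z1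

theorem cast_zero (h : s ^ n ∈ zpowers z) : (n : ZMod p) = 0 := by
  have h1 := (cg_bs (v₀ := v₀) 0).app (C.lead (g := 1) (by simpa using h))
  simpa using C.uniq (C.bs_ne (by have := C.k2; omega)) h1 (cg_zero.2 (by simp))

theorem NP_NT : 𝐍(P) ≤ 𝐍(zpowers z) := fun h hh => by
  obtain ⟨-, b, -, hb, -⟩ := C.wts h hh
  refine mem_normalizer_of_conj_mem ?_
  rintro _ ⟨i, rfl⟩
  rw [← conj_zpow, hb]
  exact zpow_mem (pow_mem (mem_zpowers z) b) i

theorem reg (hu : u ∈ P) (hu' : u ∉ zpowers z) (hh : h * u * h⁻¹ ∈ P) : h ∈ 𝐍(P) := by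
  obtain ⟨n, hn⟩ := C.dec u hu
  have h0 : (n : ZMod p) ≠ 0 := fun e => by
    obtain ⟨c, rfl⟩ := (ZMod.natCast_eq_zero_iff _ _).1 e
    rw [pow_mul, C.pow_p C.sP] at hn
    exact hu' (by simpa using hn)
  refine C.flagN fun j v hv => ?_
  have h1 := lead_pow (d := 1) (C.lead hn) j
  rw [one_mul] at h1
  have h2 : Commute ((ρ u - 1) ^ j) (ρ s - 1) :=
    (comm_sub2 (C.abel hu C.sP).eq).pow_left j
  have h3 : v ∈ W ρ s (0 + j) := by rwa [zero_add]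
  obtain ⟨w, -, rfl⟩ := (C.img' h2 (pow_ne_zero j h0) h1).1 h3
  have e : ρ h * (ρ u - 1) = (ρ (h * u * h⁻¹) - 1) * ρ h := by
    rw [mul_sub, sub_mul, ← map_mul, ← map_mul]; simp
  have e' : ρ h * (ρ u - 1) ^ j = (ρ (h * u * h⁻¹) - 1) ^ j * ρ h := SemiconjBy.pow_right e j
  rw [← End.mul_apply, e', End.mul_apply]
  simpa using Deg_pow (C.P_deg hh) j 0 _ W_zero

theorem fus (hu : u ∈ P) (hu1 : u ≠ 1) (hh : h * u * h⁻¹ ∈ P) : h ∈ 𝐍(zpowers z) := by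
  by_cases h1 : u ∈ zpowers z
  swap
  · exact C.NP_NT (C.reg hu h1 hh)
  by_cases h2 : h * u * h⁻¹ ∈ zpowers z
  swap
  · exact C.NP_NT ((inv_mem_iff).1 (C.reg hh h2 (by simpa [mul_assoc] using hu)))
  refine mem_normalizer_of_conj_mem fun x hx => ?_
  obtain ⟨i, hi⟩ := mem_zpowers_of_prime_card (G := zpowers z) (p := p)
    (by rw [Nat.card_zpowers, C.ord_z]) (g := ⟨u, h1⟩) (g' := ⟨x, hx⟩) (by simpa using hu1)
  rw [← (show u ^ i = x from congrArg Subtype.val hi), ← conj_zpow]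
  exact zpow_mem h2 i

theorem freeT (hu : u ∈ P) (hu1 : u ≠ 1) (x : G) (hx : x⁻¹ * u * x ∈ 𝐍(zpowers z)) :
    x ∈ 𝐍(zpowers z) := by
  obtain ⟨n, hn, h1⟩ := (C.syl.of_le (le_normalizer.trans C.NP_NT) le_top).exists_conj_mem
    (pg_conj (C.pow_p hu) x) (zpowers_le.2 hx)
  have := C.fus (h := n * x⁻¹) hu hu1 (by simpa [mul_assoc] using h1 _ (mem_zpowers _))
  exact inv_mem_iff.1 ((mul_mem_cancel_left hn).1 this)

theorem freeS (hu : u ∈ zpowers s) (hu1 : u ≠ 1) (x : G) (hx : x⁻¹ * u * x ∈ 𝐍(P)) : x ∈ 𝐍(P) := by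
  have huP := zpowers_le.2 C.sP hu
  obtain ⟨n, hn, h1⟩ := (C.syl.of_le le_normalizer le_top).exists_conj_mem
    (pg_conj (C.pow_p huP) x) (zpowers_le.2 hx)
  obtain ⟨i, rfl⟩ := mem_powers_iff_mem_zpowers.2 hu
  have := C.reg (h := n * x⁻¹) huP (fun h => hu1 (by
    obtain ⟨c, rfl⟩ := (ZMod.natCast_eq_zero_iff _ _).1 (C.cast_zero h)
    simp [pow_mul, C.pow_p C.sP])) (by simpa [mul_assoc] using h1 _ (mem_zpowers _))
  exact inv_mem_iff.1 ((mul_mem_cancel_left hn).1 this)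

theorem ord_s : orderOf s = p := orderOf_eq_prime (C.pow_p C.sP) fun e =>
  one_ne_zero (by simpa using C.cast_zero (n := 1) (by simp [e]) : (1 : ZMod p) = 0)

theorem frG (hn : n ≤ (k + 1) * (p - 1)) : Fr p s z k 𝐍(zpowers z) n := fun f hf hF => by
  refine cs_eq (fun i : Fin p × Fin p => z ^ (i.1 : ℕ) * s ^ (i.2 : ℕ)) ?_ (P₀ := P) (fun u => ⟨fun hu => ?_, ?_⟩)
    (le_normalizer.trans C.NP_NT) (fun u => C.freeT) hF (sum_sz hf hn)
  · rintro ⟨i, j⟩ ⟨i', j'⟩ (e : z ^ (i : ℕ) * s ^ (j : ℕ) = z ^ (i' : ℕ) * s ^ (j' : ℕ))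
    have key : ∀ a b c d : Fin p, b ≤ d → z ^ (a : ℕ) * s ^ (b : ℕ) = z ^ (c : ℕ) * s ^ (d : ℕ) → b = d := by
      intro a b c d h e
      obtain ⟨m, hm⟩ := Nat.exists_eq_add_of_le' (show (b : ℕ) ≤ d from h)
      rw [hm, pow_add, ← mul_assoc, mul_left_inj, ← inv_mul_eq_iff_eq_mul] at e
      have := (ZMod.natCast_eq_zero_iff _ _).1 (C.cast_zero (e ▸ mul_mem (inv_mem (pow_mem (mem_zpowers z) _))
        (pow_mem (mem_zpowers z) _)))
      exact Fin.ext (by have := Nat.eq_zero_of_dvd_of_lt this (by omega); omega)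
    obtain rfl : j = j' := (le_total j j').elim (key _ _ _ _ · e) fun h => (key _ _ _ _ h e.symm).symm
    rw [Fin.ext (pow_injOn_Iio_orderOf (C.ord_z.symm ▸ i.2) (C.ord_z.symm ▸ i'.2) (mul_right_cancel e))]
  · obtain ⟨n, hn⟩ := C.dec u hu
    obtain ⟨m, hm⟩ := mem_powers_iff_mem_zpowers.2 hn
    refine ⟨(⟨m % p, Nat.mod_lt _ hp.out.pos⟩, ⟨n % p, Nat.mod_lt _ hp.out.pos⟩), ?_⟩
    simp only [← pow_eq_pow_mod _ (C.pow_p C.zP), ← pow_eq_pow_mod _ (C.pow_p C.sP)]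
    rw [← ((show Commute s z from C.comm).pow_pow n m).eq, show z ^ m = _ from hm, mul_inv_cancel_left]
  · rintro ⟨i, rfl⟩
    exact mul_mem (pow_mem C.zP _) (pow_mem C.sP _)

theorem frX (hP : P ≤ X) (hn : n ≤ p - 1) :
    Fr p (⟨s, hP C.sP⟩ : X) ⟨z, hP C.zP⟩ k (𝐍(P).subgroupOf X) n := fun f hf hF => by
  have ho : orderOf (⟨s, hP C.sP⟩ : X) = p := by rw [← Subgroup.orderOf_coe, C.ord_s]
  refine cs_eq (fun i : Fin p => (⟨s, hP C.sP⟩ : X) ^ (i : ℕ)) (fun i j e => Fin.ext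
    (pow_injOn_Iio_orderOf (ho.symm ▸ i.2) (ho.symm ▸ j.2) e)) (P₀ := zpowers ⟨s, hP C.sP⟩)
    (fun u => ⟨fun hu => ?_, ?_⟩) (zpowers_le.2 (le_normalizer C.sP)) (fun u hu h1 x hx => ?_) hF
    (sum_s hf hn)
  · obtain ⟨m, rfl⟩ := mem_powers_iff_mem_zpowers.2 hu
    exact ⟨⟨m % p, Nat.mod_lt _ hp.out.pos⟩, (pow_eq_pow_mod _ (Subtype.ext (C.pow_p C.sP))).symm⟩
  · rintro ⟨i, rfl⟩
    exact pow_mem (mem_zpowers _) _
  · obtain ⟨m, rfl⟩ := hu
    exact C.freeS (u := s ^ m) ⟨m, rfl⟩ (fun e => h1 (Subtype.ext e)) x hx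

end Sm

end Cfsg.Agent.M9
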