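import Cfsg.Agent.M9.S2

/-! Weights, and the case of a normal Sylow subgroup of `N(z)`. -/

set_option autoImplicit false
set_option linter.unusedSectionVars false
set_option linter.unusedSimpArgs false

namespace Cfsg.Agent.M9

open Subgroup Cfsg.Agent.H1 Cfsg.Agent.L Cfsg.Agent.FT Module

variable {p : ℕ} [hp : Fact p.Prime] {G V : Type*} [Group G] [AddCommGroup V] [Module (ZMod p) V]
  {ρ : G →* End (ZMod p) V} {P Q H X : Subgroup G} {s z g h u : G} {v₀ v w : V}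
  {A B L : End (ZMod p) V} {i j d e n k : ℕ} {a c c' : ZMod p} {lam : G → ZMod p}
  {φ : V →ₗ[ZMod p] ZMod p}

theorem wt_pow (h : B * A = c • (A * B)) (n : ℕ) : B * A ^ n = c ^ n • (A ^ n * B) := by
  induction n with
  | zero => simp
  | succ n ih =>
    rw [pow_succ, ← mul_assoc, ih, smul_mul_assoc, mul_assoc, h, mul_smul_comm, smul_smul, ← pow_succ,
      mul_assoc]

theorem conj_sub (h u : G) : ρ h * (ρ u - 1) = (ρ (h * u * h⁻¹) - 1) * ρ h := by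
  rw [mul_sub, sub_mul, ← map_mul, ← map_mul]; simp

/-- the weight `lam` of `N(P)` and an eigenoperator `L` -/
structure Wt (ρ : G →* End (ZMod p) V) (P : Subgroup G) (s z : G) (v₀ : V) (k : ℕ)
    (lam : G → ZMod p) : Prop where
  ne : ∀ h ∈ 𝐍(P), lam h ≠ 0
  ld : ∀ h ∈ 𝐍(P), ρ (h * s * h⁻¹) - 1 - lam h • (ρ s - 1) ^ 1 ∈ Deg ρ s 2
  cg : ∀ h ∈ 𝐍(P), ∀ j, Cg ρ s v₀ j (lam h ^ (k + 1 + j)) (ρ h (bs ρ s v₀ j))
  zz : ∀ h ∈ 𝐍(P), ∃ b : ℕ, h * z * h⁻¹ = z ^ b ∧ (b : ZMod p) = lam h ^ k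

namespace Sm
variable [Finite G] (C : Sm ρ P H s z v₀ k a)
include C

theorem N_deg (hh : h ∈ 𝐍(P)) : ρ h ∈ Deg ρ s 0 := C.wt_deg ((mem_normalizer_iff.1 hh s).1 C.sP)

theorem exists_wt : ∃ lam, Wt ρ P s z v₀ k lam := by
  have key : ∀ h : G, ∃ l : ZMod p, h ∈ 𝐍(P) → l ≠ 0 ∧
      ρ (h * s * h⁻¹) - 1 - l • (ρ s - 1) ^ 1 ∈ Deg ρ s 2 ∧
      (∀ j, Cg ρ s v₀ j (l ^ (k + 1 + j)) (ρ h (bs ρ s v₀ j))) ∧
      ∃ b : ℕ, h * z * h⁻¹ = z ^ b ∧ (b : ZMod p) = l ^ k := by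
    intro h
    by_cases hh : h ∈ 𝐍(P)
    swap
    · exact ⟨0, fun h => absurd h hh⟩
    obtain ⟨l, b, h1, h2, h3⟩ := C.wts h hh
    have h0 : Cg ρ s v₀ 0 ((l * b : ℕ) : ZMod p) (ρ h v₀) := h3
    have h4 : ((l * b : ℕ) : ZMod p) ≠ 0 := fun e => by
      have := C.N_deg (inv_mem hh) _ _ (cg_zero.1 (e ▸ h0))
      rw [rho_inv] at this
      exact C.bs_ne k.zero_le (C.bs_eq_zero this)
    have h5 := C.wt h1 h0
    have h6 := C.app_bs (d := 0) (C.N_deg hh) (h5 _) ((cg_bs 0).app C.lz)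
    have h7 := h0.app (pow_lead (by have := C.k2; omega) C.lz b)
    rw [← End.mul_apply, conj_sub, h2, map_pow, End.mul_apply] at h6
    simp only [zero_add, add_zero, mul_one] at h6 h7
    have h8 : (b : ZMod p) = (l : ZMod p) ^ k := mul_right_cancel₀ (mul_ne_zero C.a0 h4) (by
      linear_combination C.uniq C.bk h7 h6)
    refine ⟨l, fun _ => ⟨fun e => h4 (by simp [e]), C.lead h1, fun j => ?_, b, h2, h8⟩⟩
    convert h5 j using 1
    rw [Nat.cast_mul, h8]; ring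
  choose lam h using key
  exact ⟨lam, fun g hg => (h g hg).1, fun g hg => (h g hg).2.1, fun g hg => (h g hg).2.2.1,
    fun g hg => (h g hg).2.2.2⟩

variable (E : Wt ρ P s z v₀ k lam)
include E

theorem lam_eq (hh : h ∈ 𝐍(P)) (h1 : ∀ j, Cg ρ s v₀ j (c ^ (k + 1 + j)) (ρ h (bs ρ s v₀ j))) :
    lam h = c := by
  have h2 := C.uniq (C.bs_ne k.zero_le) (E.cg h hh 0) (h1 0)
  have h3 := C.uniq (C.bs_ne (by have := C.k2; omega)) (E.cg h hh 1) (h1 1)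
  rw [pow_succ _ (k + 1), pow_succ _ (k + 1), ← show _ ^ (k + 1) = _ ^ (k + 1) from h2] at h3
  exact mul_left_cancel₀ (pow_ne_zero _ (E.ne h hh)) h3

theorem lam_mul (hg : g ∈ 𝐍(P)) (hh : h ∈ 𝐍(P)) : lam (g * h) = lam g * lam h :=
  C.lam_eq E (mul_mem hg hh) fun j => by
    rw [rho_mul, mul_comm, mul_pow]
    exact C.app_bs (d := 0) (C.N_deg hg) (E.cg g hg j) (E.cg h hh j)

theorem lam_P (hu : u ∈ P) : lam u = 1 :=
  C.lam_eq E (le_normalizer hu) fun j => by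
    rw [one_pow]; exact (cg_bs j).of_sub (C.P_deg hu j _ (bs_mem j))

theorem lam_inv (hh : h ∈ 𝐍(P)) : lam h⁻¹ = (lam h)⁻¹ :=
  eq_inv_of_mul_eq_one_left (by rw [← C.lam_mul E (inv_mem hh) hh, inv_mul_cancel, C.lam_P E (one_mem _)])

theorem phi_wt (hφ : ∀ c v, Cg ρ s v₀ j c v → φ v = c) (hh : h ∈ 𝐍(P)) (hw : w ∈ W ρ s j) :
    φ (ρ h⁻¹ w) = (lam h)⁻¹ ^ (k + 1 + j) * φ w := by
  obtain ⟨c, hc⟩ := C.ex hw
  rw [hφ _ _ hc, hφ _ _ (C.app_bs (d := 0) (C.N_deg (inv_mem hh)) (E.cg _ (inv_mem hh) j) hc),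
    C.lam_inv E hh, mul_comm]

theorem exists_L : ∃ L : End (ZMod p) V, L - (1 : ZMod p) • (ρ s - 1) ^ 1 ∈ Deg ρ s (1 + 1) ∧
    Commute L (ρ s - 1) ∧ ∀ g ∈ 𝐍(P), ρ g * L = lam g • (L * ρ g) := by
  let F : 𝐍(P) → End (ZMod p) V := fun h => (lam h)⁻¹ • (ρ (h * s * (h : G)⁻¹) - 1)
  have h1 : ∀ h ∈ P.subgroupOf 𝐍(P), ∀ x, F (x * h) = F x := fun h hh x => by
    have hh' : (h : G) ∈ P := hh
    simp only [F, coe_mul, C.lam_mul E x.2 h.2, C.lam_P E hh', mul_one, mul_inv_rev]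
    rw [mul_assoc _ _ s, (C.abel hh' C.sP).eq]
    simp [mul_assoc]
  have h2 := cs_sub_mem (X₀ := P.subgroupOf 𝐍(P)) (F := F) (m := (ρ s - 1) ^ 1) (U := Deg ρ s 2)
    fun x => by
      have := Submodule.smul_mem _ (lam x)⁻¹ (E.ld x x.2)
      rwa [smul_sub, smul_smul, inv_mul_cancel₀ (E.ne _ x.2), one_smul] at this
  have h3 : ((P.subgroupOf 𝐍(P)).index : ZMod p) ≠ 0 := fun e =>
    (C.syl.of_le le_normalizer le_top).not_dvd_relIndex ((ZMod.natCast_eq_zero_iff _ _).1 e)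
  have h4 : ∀ g ∈ 𝐍(P), ρ g * cs (P.subgroupOf 𝐍(P)) F = lam g • (cs (P.subgroupOf 𝐍(P)) F * ρ g) := by
    intro g hg
    have h5 := cs_map (X₀ := P.subgroupOf 𝐍(P)) (F := F) (AddMonoidHom.mulLeft (ρ g))
    have h6 := cs_map (X₀ := P.subgroupOf 𝐍(P)) (F := fun x => F (⟨g, hg⟩ * x))
      (lam g • LinearMap.mulRight (ZMod p) (ρ g))
    rw [cs_tr h1] at h6
    refine (h5.trans ?_).trans h6.symm
    congr 1
    funext x
    simp only [F, AddMonoidHom.coe_mulLeft, mul_smul_comm, conj_sub, LinearMap.smul_apply,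
      LinearMap.mulRight_apply, coe_mul, C.lam_mul E hg x.2, smul_mul_assoc, smul_smul, mul_inv,
      mul_inv_cancel_left₀ (E.ne g hg), mul_inv_rev, mul_assoc]
  have h5 : ∀ g ∈ 𝐍(P), ρ g * (((P.subgroupOf 𝐍(P)).index : ZMod p)⁻¹ • cs (P.subgroupOf 𝐍(P)) F) =
      lam g • ((((P.subgroupOf 𝐍(P)).index : ZMod p)⁻¹ • cs (P.subgroupOf 𝐍(P)) F) * ρ g) :=
    fun g hg => by rw [mul_smul_comm, h4 g hg, smul_mul_assoc, smul_comm]
  refine ⟨_, ?_, ?_, h5⟩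
  · have := Submodule.smul_mem _ ((P.subgroupOf 𝐍(P)).index : ZMod p)⁻¹ h2
    rwa [smul_sub, smul_smul, inv_mul_cancel₀ h3] at this
  · have := h5 s (le_normalizer C.sP)
    rw [C.lam_P E C.sP, one_smul] at this
    simp only [Commute, SemiconjBy, mul_sub, sub_mul, this, mul_one, one_mul]

omit E in
/-- no invariant chain with small steps -/
theorem fin (h : ∀ i, ∃ j, i < j ∧ j ≤ i + k ∧ ∀ g, ∀ v ∈ W ρ s j, ρ g v ∈ W ρ s j) : False := by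
  choose f h1 h2 h3 using h
  have h4 : ∀ n, n ≤ f^[n] 0 := fun n => by
    induction n with
    | zero => exact le_rfl
    | succ n ih => rw [Function.iterate_succ_apply']; exact ih.trans_lt (h1 _)
  obtain ⟨R, hR, hRp, -, hXR⟩ := chain (X := ⊤) (n := p - 1) C.inj (fun j => W ρ s (f^[j] 0))
    (fun _ => W_zero) (fun v => C.W_big (h4 _)) fun g _ j => by
      rcases j with _ | j
      · exact fun _ _ => W_zero
      · rw [Function.iterate_succ_apply']; exact h3 _ g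
  have := (hR z).2 ⟨mem_top _, fun j v hv => by
    rw [Function.iterate_succ_apply']; exact W_anti (h2 _) (Deg_lead C.lz _ _ hv)⟩
  rw [C.nopn hRp hXR] at this
  exact C.z1 this

omit E in
theorem tw {Γ : Type*} [Group Γ] {r : Γ →* End (ZMod p) V} {σ ζ : Γ} {α : ℕ} (h : σ * ζ = ζ * σ)
    (h1 : r σ = ρ s) (h2 : r σ⁻¹ = ρ s⁻¹) (h3 : r ζ = ρ z) (h4 : r ζ⁻¹ = ρ z⁻¹)
    (i1 : ∀ g, ∀ v ∈ W ρ s α, r g v ∈ W ρ s α)
    (i2 : ∀ g, ∀ v ∈ W ρ s (α + d), r g v ∈ W ρ s (α + d)) : Tw ρ s r σ ζ k α d :=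
  ⟨h, by have := C.k2; omega, h1 ▸ Deg_N, h2 ▸ C.P_deg (inv_mem C.sP), h3 ▸ Deg_lead C.lz,
    h4 ▸ inv_deg (Deg_of_sub (C.P_deg (inv_mem C.zP))) (Deg_lead C.lz), i1, i2⟩

omit E in
theorem tw0 (h0 : ∀ v ∈ W ρ s (0 + d), v = 0) : Tw ρ s ρ s z k 0 d :=
  C.tw C.comm rfl rfl rfl rfl (fun _ _ _ => W_zero) fun g v hv => by
    rw [h0 v hv, map_zero]; exact zero_mem _

omit E in
theorem inv_step (hA : A - (1 : ZMod p) • (ρ s - 1) ^ e ∈ Deg ρ s (e + 1)) (hc : Commute A (ρ s - 1))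
    (hn : ∀ g, ∃ c : ZMod p, ρ g * A = c • (A * ρ g)) (hi : ∀ g, ∀ v ∈ W ρ s i, ρ g v ∈ W ρ s i)
    (q : ℕ) : ∀ g, ∀ v ∈ W ρ s (e * q + i), ρ g v ∈ W ρ s (e * q + i) := by
  intro g
  obtain ⟨c, hc'⟩ := hn g
  induction q with
  | zero => simpa using hi g
  | succ q ih => rw [Nat.mul_succ, add_right_comm]; exact C.img_inv hc one_ne_zero hA hc' ih

theorem caseA (hA : 𝐍(zpowers z) ≤ 𝐍(P)) : False := by
  obtain ⟨L, hL, hLc, hLw⟩ := C.exists_L E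
  have hk := C.k2
  have hkp := C.lt_of_bs C.bk
  have h5 := C.p5
  have hLj : ∀ j, L ^ j - (1 : ZMod p) • (ρ s - 1) ^ j ∈ Deg ρ s (j + 1) := fun j => by
    simpa using lead_pow hL j
  have hL0 : ∀ j, L ^ j ∈ Deg ρ s 0 := fun j => Deg_mono j.zero_le (Deg_lead (hLj j))
  have hw : ∀ j, ∀ h ∈ 𝐍(zpowers z), ρ h * L ^ j = lam h ^ j • (L ^ j * ρ h) := fun j h hh =>
    wt_pow (hLw h (hA hh)) j
  obtain ⟨φ, hφ0, hφ⟩ := C.exists_phi (C.bs_ne k.zero_le)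
  have hφw : ∀ h ∈ 𝐍(zpowers z), ∀ w ∈ W ρ s 0, φ (ρ h⁻¹ w) = (lam h)⁻¹ ^ (k + 1 + 0) * φ w :=
    fun h hh w hw => C.phi_wt E hφ (hA hh) hw
  have hφ1 : φ (ρ 1⁻¹ v₀) = 1 := by simpa [bs_zero] using hφ _ _ (cg_bs 0)
  have hψ1 : ∀ j (ψ : V →ₗ[ZMod p] ZMod p), (∀ c v, Cg ρ s v₀ j c v → ψ v = c) →
      ψ (ρ 1 ((L ^ j) (ρ 1⁻¹ v₀))) = 1 := fun j ψ h => by
    have := (cg_bs (v₀ := v₀) 0).app (hLj j)
    rw [zero_add] at this
    simpa [bs_zero] using h _ _ this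
  have hF := C.frG (n := (k + 1) * (p - 1)) le_rfl
  by_cases hb : bs ρ s v₀ (k + 1) = 0
  · have h0 : ∀ v ∈ W ρ s (0 + (k + 1)), v = 0 := fun v hv => C.W_eq_zero hb (by simpa using hv)
    have T := C.tw0 h0
    obtain ⟨ψ, -, hψ⟩ := C.exists_phi C.bk
    have := T.nm h0 rfl hF (by simpa using hL0 1) (fun h hh => hLw h (hA hh))
      ((T.opFn (hL0 k) (hw k) (φ := ψ) (fun w hw => by rw [h0 w hw, map_zero]) (v := v₀) W_zero).mul
        T.comm T.k1 (T.dualFn (fun w hw => by rw [h0 w hw, map_zero]) hφw (v := v₀) W_zero)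
        (n := 3 * k + 1) (by omega)) (by simp only [Pi.mul_apply, hφ1, hψ1 k ψ hψ, mul_one])
      (fun h hh => by
        simp only [Pi.mul_apply]
        rw [← mul_assoc, ← pow_succ', add_zero, ← mul_pow, mul_inv_cancel₀ (E.ne h (hA hh)), one_pow])
      (by
        rcases (show 4 = p - 1 ∨ 5 ≤ p - 1 by omega) with h | h
        · rw [← h]; omega
        · have := Nat.mul_le_mul_left (k + 1) h; omega)
    refine C.fin fun i => ⟨i + 1, by omega, by omega, ?_⟩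
    simpa using C.inv_step hL hLc this (i := 0) (fun _ _ _ => W_zero) (i + 1)
  · have h0 : ∀ v ∈ W ρ s (0 + (p - 1)), v = 0 := fun v => C.W_big (by omega)
    have T := C.tw0 h0
    obtain ⟨ψ, -, hψ⟩ := C.exists_phi hb
    have h3 := Nat.mul_le_mul_right (p - 1) (show 3 ≤ k + 1 by omega)
    have h1 := T.nm h0 rfl hF (hL0 (k + 1)) (hw _)
      (T.dualFn (fun w hw => by rw [h0 w hw, map_zero]) hφw (v := v₀) W_zero) hφ1
      (fun h hh => by rw [add_zero, ← mul_pow, mul_inv_cancel₀ (E.ne h (hA hh)), one_pow]) (by omega)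
    have h2 : ∀ g, ∀ v ∈ W ρ s 1, ρ g v ∈ W ρ s 1 := fun g v hv => by
      have := T.ker_inv hF (fun w hw => by rw [h0 w hw, map_zero]) hφw
        (T.opFn (hL0 (k + 1)) (hw _) (φ := ψ) (fun w hw => by rw [h0 w hw, map_zero]) (v := v₀) W_zero)
        (hψ1 _ ψ hψ)
        (fun h hh => by rw [add_zero, ← mul_pow, inv_mul_cancel₀ (E.ne h (hA hh)), one_pow])
        (by omega) g W_zero (hφ0 v hv)
      obtain ⟨c, hc⟩ := C.ex (W_zero (v := ρ g v))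
      rw [hφ _ _ hc] at this
      exact cg_zero.1 (this ▸ hc)
    refine C.fin fun i => ?_
    have h4 := Nat.div_add_mod i (k + 1)
    have h6 := Nat.mod_lt i (show 0 < k + 1 by omega)
    by_cases h7 : i % (k + 1) = 0
    · exact ⟨_, by omega, by omega, C.inv_step (hLj _) (hLc.pow_left _) h1 h2 (i / (k + 1))⟩
    · exact ⟨_, by rw [Nat.mul_succ]; omega, by rw [Nat.mul_succ]; omega,
        C.inv_step (hLj _) (hLc.pow_left _) h1 (i := 0) (fun _ _ _ => W_zero) (i / (k + 1) + 1)⟩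

end Sm

end Cfsg.Agent.M9
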